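import Cfsg.Agent.Lib.Helper92.He.S44Iso

/-!
# The index-2 subgroup `≅ Sp(4, 4)` of `⟨a, c, d, e, f, (ab)^2, (bcde)^7⟩ ≤ He`: the counting (helper92)
-/

set_option autoImplicit false

namespace Cfsg.Agent.Lib.Helper92.He.S44
open Cfsg.Agent.Lib.Helper92.VecPerm
open Cfsg.Agent.Lib.Helper92.BlockAct
open Cfsg.Agent.Lib.Helper92.SimpleAux
open Cfsg.Agent.Lib.Helper92.He
open Cfsg.Agent.Lib.Helper36 (F4)
open Cfsg.Spor Cfsg.Spor.He
open Matrix

theorem finite_HG : Finite HG := card_HG_le.1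

/-- the stabilizer of the point 0 -/
noncomputable def S0 : Subgroup HG := MulAction.stabilizer HG (0 : Fin 2058)

theorem card_S0 : Nat.card S0 = 1958400 := by
  have := finite_HG
  have horb : MulAction.orbit HG (0 : Fin 2058) = Set.univ := by
    ext x
    simp only [Set.mem_univ, iff_true]
    obtain ⟨g, hg⟩ := trans0 x
    exact ⟨g, hg⟩
  have h1 : Nat.card (MulAction.orbit HG (0 : Fin 2058)) = 2058 := by
    rw [horb, Nat.card_congr (Equiv.Set.univ _), Nat.card_eq_fintype_card, Fintype.card_fin]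
  have h2 := Nat.card_congr (MulAction.orbitEquivQuotientStabilizer HG (0 : Fin 2058))
  have h3 := Subgroup.card_eq_card_quotient_mul_card_subgroup (MulAction.stabilizer HG (0 : Fin 2058))
  rw [← h2, h1, card_HG] at h3
  unfold S0
  omega

theorem H1_le_S0 : H1 ≤ S0 := by
  intro g hg
  show g • (0 : Fin 2058) = 0
  exact Fin.ext (fix1_0 g hg)

theorem evW_mem_H1 (w : List ℕ) (hw : w ∈ gens1) : evW w ∈ H1 :=
  Subgroup.subset_closure ⟨w, hw, rfl⟩

theorem MG_cases : ∀ m < 7, MG m ∈ gens1 ∨ (MG m).reverse ∈ gens1 := by decide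

theorem gm_mem_H1 (m : ℕ) (hm : m < 7) : gm m ∈ H1 := by
  rcases MG_cases m hm with h | h
  · exact evW_mem_H1 _ h
  · have := H1.inv_mem (evW_mem_H1 _ h)
    rw [evW_reverse (MG m) (MG_lt m hm), inv_inv] at this
    exact this

theorem N0_le_H1 : N0 ≤ H1 := by
  unfold N0
  rw [Subgroup.closure_le]
  rintro _ ⟨m, hm, rfl⟩
  exact gm_mem_H1 m hm

theorem tEl_mem_H1 : tEl ∈ H1 := evW_mem_H1 Tw (by decide)

/-- the image of `(ab)^2` on the blocks -/
theorem thetaS_tEl (j : Fin 85) : (thetaS ⟨tEl, tEl_mem_stab⟩ j).val = PtT j.val := by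
  have := thetaS_apply ⟨tEl, tEl_mem_stab⟩ j ⟨PtT j.val, (chkT_at j.val j.isLt).2.2.1⟩
    (tEl_smul j.val j.isLt)
  rw [this]

theorem tEl_not_mem : tEl ∉ N0 := by
  intro hmem
  -- the image of `tEl` lies in `Q` and fixes the four base blocks
  have hq : theta ⟨tEl, hmem⟩ ∈ Q := ⟨_, rfl⟩
  have hval : ∀ j : Fin 85, (theta ⟨tEl, hmem⟩ j).val = PtT j.val := fun j => thetaS_tEl j
  obtain ⟨f0, f1, f3, f47, fm, hlt⟩ := chk_Tfix
  have key := card_and_faithful85.2 ⟨theta ⟨tEl, hmem⟩, hq⟩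
    (Fin.ext (by show (theta ⟨tEl, hmem⟩ 0).val = _; rw [hval]; exact f0))
    (Fin.ext (by show (theta ⟨tEl, hmem⟩ 1).val = _; rw [hval]; exact f1))
    (Fin.ext (by show (theta ⟨tEl, hmem⟩ 3).val = _; rw [hval]; exact f3))
    (Fin.ext (by show (theta ⟨tEl, hmem⟩ 47).val = _; rw [hval]; exact f47))
  have h1 : theta ⟨tEl, hmem⟩ = 1 := congrArg Subtype.val key
  have h2 := hval ⟨jMoved, hlt⟩
  rw [h1] at h2
  exact fm h2.symm

theorem card_N0_and_inj : Nat.card N0 = 979200 ∧ Function.Injective theta := by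
  have := finite_HG
  have h1 := Subgroup.card_eq_card_quotient_mul_card_subgroup theta.ker
  have h2 : Nat.card (N0 ⧸ theta.ker) = 979200 := by
    rw [Nat.card_congr (QuotientGroup.quotientKerEquivRange theta).toEquiv]
    exact card_Q
  rw [h2] at h1
  have hle : N0 ≤ S0 := N0_le_H1.trans H1_le_S0
  have hdvd : Nat.card N0 ∣ Nat.card S0 := Subgroup.card_dvd_of_le hle
  rw [card_S0, h1] at hdvd
  have hk : Nat.card theta.ker ∣ 2 :=
    Nat.dvd_of_mul_dvd_mul_left (by norm_num : 0 < 979200) (by simpa using hdvd)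
  have hk' : Nat.card theta.ker = 1 ∨ Nat.card theta.ker = 2 := by
    have := Nat.le_of_dvd (by norm_num) hk
    have hpos : 0 < Nat.card theta.ker := Nat.card_pos
    interval_cases h : Nat.card theta.ker <;> simp_all
  rcases hk' with hk1 | hk2
  · rw [hk1] at h1
    refine ⟨by omega, ?_⟩
    rw [← MonoidHom.ker_eq_bot_iff]
    exact Subgroup.eq_bot_of_card_eq _ hk1
  · exfalso
    rw [hk2] at h1
    have hcard : Nat.card S0 ≤ Nat.card N0 := by rw [card_S0, h1]
    have heq : N0 = S0 := Subgroup.eq_of_le_of_card_ge hle hcard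
    apply tEl_not_mem
    rw [heq]
    exact H1_le_S0 tEl_mem_H1

theorem card_N0 : Nat.card N0 = 979200 := card_N0_and_inj.1

theorem theta_injective : Function.Injective theta := card_N0_and_inj.2

theorem Q_eq : Q = rho.range := by
  have := finite_Sp44
  apply Subgroup.eq_of_le_of_card_ge Q_le
  rw [card_Q]
  exact card_rho_range_le

theorem rho_injective : Function.Injective rho := by
  have := finite_Sp44
  have h1 := Subgroup.card_eq_card_quotient_mul_card_subgroup rho.ker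
  have h2 : Nat.card (Sp44 ⧸ rho.ker) = 979200 := by
    rw [Nat.card_congr (QuotientGroup.quotientKerEquivRange rho).toEquiv, ← Q_eq]
    exact card_Q
  rw [h2, card_Sp44] at h1
  have hk : Nat.card rho.ker = 1 := by
    have hpos : 0 < Nat.card rho.ker := Nat.card_pos
    nlinarith
  rw [← MonoidHom.ker_eq_bot_iff]
  exact Subgroup.eq_bot_of_card_eq _ hk

/-- the subgroup generated by the macro generators is isomorphic to the symplectic group -/
noncomputable def isoN0 : N0 ≃* Sp44 :=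
  (MonoidHom.ofInjective theta_injective).trans
    ((MulEquiv.subgroupCongr (show theta.range = rho.range from Q_eq)).trans
      (MonoidHom.ofInjective rho_injective).symm)

/-! ### the subgroup of the statement -/

/-- the subgroup of the statement -/
abbrev Hs : Subgroup HG :=
  (Subgroup.closure ({Cfsg.Spor.He.a, Cfsg.Spor.He.c, Cfsg.Spor.He.d, Cfsg.Spor.He.e, Cfsg.Spor.He.f,
    (Cfsg.Spor.He.a * Cfsg.Spor.He.b) ^ 2,
    (Cfsg.Spor.He.b * Cfsg.Spor.He.c * Cfsg.Spor.He.d * Cfsg.Spor.He.e) ^ 7} :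
      Set (FreeGroup Cfsg.Spor.He.Gen))).map (PresentedGroup.mk heRels)

theorem mk_a : PresentedGroup.mk heRels Cfsg.Spor.He.a = evW [0] := by simp [evW, lv, og, PresentedGroup.of]
theorem mk_c : PresentedGroup.mk heRels Cfsg.Spor.He.c = evW [5] := by simp [evW, lv, og, PresentedGroup.of]
theorem mk_d : PresentedGroup.mk heRels Cfsg.Spor.He.d = evW [1] := by simp [evW, lv, og, PresentedGroup.of]
theorem mk_e : PresentedGroup.mk heRels Cfsg.Spor.He.e = evW [2] := by simp [evW, lv, og, PresentedGroup.of]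
theorem mk_f : PresentedGroup.mk heRels Cfsg.Spor.He.f = evW [3] := by simp [evW, lv, og, PresentedGroup.of]
theorem mk_t : PresentedGroup.mk heRels ((Cfsg.Spor.He.a * Cfsg.Spor.He.b) ^ 2) = evW [0, 6, 0, 6] := by
  simp [evW, lv, og, PresentedGroup.of, pow_succ, mul_assoc]
theorem mk_w : PresentedGroup.mk heRels
    ((Cfsg.Spor.He.b * Cfsg.Spor.He.c * Cfsg.Spor.He.d * Cfsg.Spor.He.e) ^ 7) = evW w28 := by
  simp [evW, w28, lv, og, PresentedGroup.of, pow_succ, mul_assoc]

theorem Hs_eq : Hs = H1 := by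
  unfold Hs H1 genSub
  rw [MonoidHom.map_closure]
  congr 1
  ext g
  simp only [Set.image_insert_eq, Set.image_singleton, Set.mem_insert_iff, Set.mem_singleton_iff,
    Set.mem_setOf_eq, gens1, List.mem_cons, List.not_mem_nil, or_false]
  rw [mk_a, mk_c, mk_d, mk_e, mk_f, mk_t, mk_w]
  constructor
  · rintro (rfl | rfl | rfl | rfl | rfl | rfl | rfl)
    · exact ⟨_, Or.inl rfl, rfl⟩
    · exact ⟨_, Or.inr (Or.inl rfl), rfl⟩
    · exact ⟨_, Or.inr (Or.inr (Or.inl rfl)), rfl⟩
    · exact ⟨_, Or.inr (Or.inr (Or.inr (Or.inl rfl))), rfl⟩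
    · exact ⟨_, Or.inr (Or.inr (Or.inr (Or.inr (Or.inl rfl)))), rfl⟩
    · exact ⟨_, Or.inr (Or.inr (Or.inr (Or.inr (Or.inr (Or.inl rfl))))), rfl⟩
    · exact ⟨_, Or.inr (Or.inr (Or.inr (Or.inr (Or.inr (Or.inr rfl))))), rfl⟩
  · rintro ⟨w, (rfl | rfl | rfl | rfl | rfl | rfl | rfl), rfl⟩
    · exact Or.inl rfl
    · exact Or.inr (Or.inl rfl)
    · exact Or.inr (Or.inr (Or.inl rfl))
    · exact Or.inr (Or.inr (Or.inr (Or.inl rfl)))
    · exact Or.inr (Or.inr (Or.inr (Or.inr (Or.inl rfl))))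
    · exact Or.inr (Or.inr (Or.inr (Or.inr (Or.inr (Or.inl rfl)))))
    · exact Or.inr (Or.inr (Or.inr (Or.inr (Or.inr (Or.inr rfl)))))

/-- the statement: an index-2 normal subgroup isomorphic to the symplectic group -/
theorem main : ∃ (N : Subgroup Hs) (K : Type) (_ : Field K) (_ : Fintype K), N.Normal ∧ N.index = 2 ∧
    Fintype.card K = 4 ∧ Nonempty (N ≃* Matrix.symplecticGroup (Fin 2) K) := by
  have := finite_HG
  have hle : N0 ≤ Hs := by rw [Hs_eq]; exact N0_le_H1
  have e : Nat.card (N0.subgroupOf Hs) = Nat.card N0 :=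
    Nat.card_congr (Subgroup.subgroupOfEquivOfLe hle).toEquiv
  have hidx : (N0.subgroupOf Hs).index = 2 := by
    have hmul := (N0.subgroupOf Hs).index_mul_card
    rw [e, card_N0] at hmul
    have hdvd : Nat.card Hs ∣ Nat.card S0 := Subgroup.card_dvd_of_le (by rw [Hs_eq]; exact H1_le_S0)
    rw [card_S0, ← hmul] at hdvd
    have hk : (N0.subgroupOf Hs).index ∣ 2 :=
      Nat.dvd_of_mul_dvd_mul_right (by norm_num : 0 < 979200) (by simpa using hdvd)
    have hne1 : (N0.subgroupOf Hs).index ≠ 1 := by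
      intro h1
      rw [Subgroup.index_eq_one, Subgroup.subgroupOf_eq_top] at h1
      exact tEl_not_mem (h1 (by rw [Hs_eq]; exact tEl_mem_H1))
    rcases (Nat.dvd_prime Nat.prime_two).mp hk with h1 | h2
    · exact absurd h1 hne1
    · exact h2
  exact ⟨N0.subgroupOf Hs, F4, inferInstance, inferInstance, Subgroup.normal_of_index_eq_two hidx, hidx,
    F4.card_eq, ⟨(Subgroup.subgroupOfEquivOfLe hle).trans isoN0⟩⟩

end Cfsg.Agent.Lib.Helper92.He.S44
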