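import Cfsg.Agent.Lib.Helper92.He.Nets

/-!
# The Held presentation on 2058 points: relators, stabilizer chain, suborbits (helper92)

Letters `a, d, e, f, g, c, b` are `0, …, 6`.
-/

set_option autoImplicit false

namespace Cfsg.Agent.Lib.Helper92.He
open Cfsg.Agent.Lib.Helper92.VecPerm

/-- the Coxeter labels in the numbering `a, d, e, f, g, c, b` -/
def lblN (i j : ℕ) : ℕ :=
  if i = j then 1 else
  if (i = 0 ∧ j = 6) ∨ (i = 6 ∧ j = 0) then 4 else
  if (i = 6 ∧ j = 5) ∨ (i = 5 ∧ j = 6) then 3 else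
  if (i = 5 ∧ j = 1) ∨ (i = 1 ∧ j = 5) then 10 else
  if (i = 1 ∧ j = 2) ∨ (i = 2 ∧ j = 1) then 3 else
  if (i = 1 ∧ j = 3) ∨ (i = 3 ∧ j = 1) then 3 else
  if (i = 3 ∧ j = 4) ∨ (i = 4 ∧ j = 3) then 4 else
  if (i = 4 ∧ j = 1) ∨ (i = 1 ∧ j = 4) then 3 else 2

/-- the word `(x y)^m` -/
def coxWord (x y m : ℕ) : List ℕ := (List.replicate m [x, y]).flatten

set_option maxRecDepth 100000 in
theorem chk_cox : (List.range 7).all (fun i => (List.range 7).all (fun j =>
    eqCheck nets 12 (coxWord i j (lblN i j)) [])) = true := by decide +kernel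

set_option maxRecDepth 100000 in
theorem chk_r1 : eqCheck nets 12 [2] [3, 4, 3, 4] = true := by decide +kernel
set_option maxRecDepth 100000 in
theorem chk_r2 : eqCheck nets 12 [2] [0, 6, 5, 0, 6, 5, 0, 6, 5] = true := by decide +kernel
set_option maxRecDepth 100000 in
theorem chk_r3 : eqCheck nets 12 [0] [5, 1, 5, 1, 5, 1, 5, 1, 5, 1] = true := by decide +kernel
set_option maxRecDepth 100000 in
theorem chk_r4 : eqCheck nets 12 [5, 1, 3, 4, 5, 1, 3, 4, 5, 1, 3, 4, 5, 1, 3, 4] [] = true := by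
  decide +kernel

/-- `(d f g)^7 = 1` on the points -/
def g7word : List ℕ := [1, 3, 4, 1, 3, 4, 1, 3, 4, 1, 3, 4, 1, 3, 4, 1, 3, 4, 1, 3, 4]

set_option maxRecDepth 100000 in
theorem chk_g7 : eqCheck nets 12 g7word [] = true := by decide +kernel

/-- the word `(b c d e)^7` -/
def w28 : List ℕ := [6, 5, 1, 2, 6, 5, 1, 2, 6, 5, 1, 2, 6, 5, 1, 2, 6, 5, 1, 2, 6, 5, 1, 2, 6, 5, 1, 2]

/-- generators of the stabilizer of the point 0: `a, c, d, e, f, (a b)^2, (b c d e)^7` -/
def gens1 : List (List ℕ) := [[0], [5], [1], [2], [3], [0, 6, 0, 6], w28]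

/-- generators of the stabilizer of the points 0, 1 -/
def gens2 : List (List ℕ) := [[0], [1], [2], [3], [0, 6, 0, 6], w28]

/-- generators of the stabilizer of the points 0, 1, 15 -/
def gens3 : List (List ℕ) := [[0], [2, 0, 6, 0, 6]]

set_option maxRecDepth 100000 in
theorem chk_fix1 : gens1.all (fun w => Nat.beq (wordV nets w (2 ^ 0)) (2 ^ 0)) = true := by decide +kernel

set_option maxRecDepth 100000 in
theorem chk_fix2 : gens2.all (fun w => Nat.beq (wordV nets w (2 ^ 0)) (2 ^ 0) &&
    Nat.beq (wordV nets w (2 ^ 1)) (2 ^ 1)) = true := by decide +kernel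

set_option maxRecDepth 100000 in
theorem chk_fix3 : gens3.all (fun w => Nat.beq (wordV nets w (2 ^ 0)) (2 ^ 0) &&
    (Nat.beq (wordV nets w (2 ^ 1)) (2 ^ 1) && Nat.beq (wordV nets w (2 ^ 15)) (2 ^ 15))) = true := by
  decide +kernel

set_option maxRecDepth 100000 in
theorem chk_pres : presCheckG nets [0, 1, 2, 3, 4, 5, 6] 2058 = true := by decide +kernel

set_option maxRecDepth 100000 in
theorem chk_orbit : orbitCheck nets [0, 1, 2, 3, 4, 5, 6] 24 2058 = true := by decide +kernel

/-- seeds of the five orbits of the stabilizer of 0 -/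
def seedOf : ℕ → ℕ
  | 0 => 0 | 1 => 1 | 2 => 2 | 3 => 46 | _ => 65

/-- numbers of rounds that exhaust the orbits -/
def roundsOf : ℕ → ℕ
  | 0 => 0 | 1 => 16 | 2 => 11 | 3 => 8 | _ => 10

/-- lengths of the orbits -/
def szOf : ℕ → ℕ
  | 0 => 1 | 1 => 1360 | 2 => 425 | 3 => 136 | _ => 136

/-- the masks of the five orbits -/
noncomputable def msk (j : ℕ) : ℕ := reachFromW nets gens1 (2 ^ seedOf j) (roundsOf j)

/-- orbit of 15 under the stabilizer of 0, 1 -/
noncomputable def mskC : ℕ := reachFromW nets gens2 (2 ^ 15) 11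

/-- orbit of 34 under the stabilizer of 0, 1, 15 -/
noncomputable def mskD : ℕ := reachFromW nets gens3 (2 ^ 34) 2

set_option maxRecDepth 100000 in
theorem chk_cover :
    coverCheckG (Nat.lor (msk 0) (Nat.lor (msk 1) (Nat.lor (msk 2) (Nat.lor (msk 3) (msk 4))))) 2058 = true := by
  decide +kernel

set_option maxRecDepth 100000 in
theorem chk_disj : (List.range 5).all (fun i => (List.range 5).all (fun j =>
    Nat.beq i j || Nat.beq (Nat.land (msk i) (msk j)) 0)) = true := by
  decide +kernel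

set_option maxRecDepth 100000 in
theorem chk_pop : (List.range 5).all (fun j => Nat.beq (popTop (msk j) 2058) (szOf j)) = true := by
  decide +kernel

set_option maxRecDepth 100000 in
theorem chk_popC : popTop mskC 2058 = 360 := by decide +kernel

set_option maxRecDepth 100000 in
theorem chk_popD : popTop mskD 2058 = 4 := by decide +kernel

set_option maxRecDepth 100000 in
theorem msk_zero : msk 0 = 1 := by decide +kernel

end Cfsg.Agent.Lib.Helper92.He
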