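import Cfsg.Agent.Lib.Helper92.He.CertC49D

/-! Kernel checks of the certificate `C49` (helper92), part 2. -/

set_option autoImplicit false

namespace Cfsg.Agent.Lib.Helper92.He.C49
open Cfsg.Agent.Lib.Helper92.TCert

set_option maxRecDepth 1000000 in
theorem chk_12288 : loopB (fun u => band (chkNode row rot 8 nR 6 u) (chkFinG row 8 nC 1048575 7 u)) 2048 12288 = true := by
  decide +kernel

set_option maxRecDepth 1000000 in
theorem chk_14336 : loopB (fun u => band (chkNode row rot 8 nR 6 u) (chkFinG row 8 nC 1048575 7 u)) 2048 14336 = true := by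
  decide +kernel

set_option maxRecDepth 1000000 in
theorem chk_16384 : loopB (fun u => band (chkNode row rot 8 nR 6 u) (chkFinG row 8 nC 1048575 7 u)) 2048 16384 = true := by
  decide +kernel

end Cfsg.Agent.Lib.Helper92.He.C49
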