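import Cfsg.Agent.Lib.Helper92.He.CertC49D

/-! Kernel checks of the certificate `C49` (helper92), part 3. -/

set_option autoImplicit false

namespace Cfsg.Agent.Lib.Helper92.He.C49
open Cfsg.Agent.Lib.Helper92.TCert

set_option maxRecDepth 1000000 in
theorem chk_18432 : loopB (fun u => band (chkNode row rot 8 nR 6 u) (chkFinG row 8 nC 1048575 7 u)) 2048 18432 = true := by
  decide +kernel

set_option maxRecDepth 1000000 in
theorem chk_20480 : loopB (fun u => band (chkNode row rot 8 nR 6 u) (chkFinG row 8 nC 1048575 7 u)) 2048 20480 = true := by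
  decide +kernel

set_option maxRecDepth 1000000 in
theorem chk_22528 : loopB (fun u => band (chkNode row rot 8 nR 6 u) (chkFinG row 8 nC 1048575 7 u)) 2048 22528 = true := by
  decide +kernel

end Cfsg.Agent.Lib.Helper92.He.C49
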