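import Cfsg.Agent.Lib.Helper92.He.CertC49D

/-! Kernel checks of the certificate `C49` (helper92), part 8. -/

set_option autoImplicit false

namespace Cfsg.Agent.Lib.Helper92.He.C49
open Cfsg.Agent.Lib.Helper92.TCert

set_option maxRecDepth 1000000 in
theorem chk_49152 : loopB (fun u => band (chkNode row rot 8 nR 6 u) (chkFinG row 8 nC 1048575 7 u)) 828 49152 = true := by
  decide +kernel

set_option maxRecDepth 1000000 in
theorem chk_49980 : loopB (chkNode row rot 8 nR 6) 468 49980 = true := by
  decide +kernel

end Cfsg.Agent.Lib.Helper92.He.C49
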