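import Cfsg.Agent.Lib.Helper92.He.CertC49C0
import Cfsg.Agent.Lib.Helper92.He.CertC49C1
import Cfsg.Agent.Lib.Helper92.He.CertC49C2
import Cfsg.Agent.Lib.Helper92.He.CertC49C3
import Cfsg.Agent.Lib.Helper92.He.CertC49C4
import Cfsg.Agent.Lib.Helper92.He.CertC49C5
import Cfsg.Agent.Lib.Helper92.He.CertC49C6
import Cfsg.Agent.Lib.Helper92.He.CertC49C7
import Cfsg.Agent.Lib.Helper92.He.CertC49C8

/-! All checks of the certificate `C49` (helper92). -/

set_option autoImplicit false

namespace Cfsg.Agent.Lib.Helper92.He.C49
open Cfsg.Agent.Lib.Helper92.TCert

theorem chk_nodes (u : ℕ) (hu : u < nN) : chkNode row rot 8 nR 6 u = true := by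
  have hu' : u < 50448 := hu
  by_cases h0 : u < 2048
  · have := loopB_spec _ _ _ chk_0 u (by omega) (by omega)
    rw [band_eq, Bool.and_eq_true] at this
    exact this.1
  by_cases h2048 : u < 4096
  · have := loopB_spec _ _ _ chk_2048 u (by omega) (by omega)
    rw [band_eq, Bool.and_eq_true] at this
    exact this.1
  by_cases h4096 : u < 6144
  · have := loopB_spec _ _ _ chk_4096 u (by omega) (by omega)
    rw [band_eq, Bool.and_eq_true] at this
    exact this.1
  by_cases h6144 : u < 8192
  · have := loopB_spec _ _ _ chk_6144 u (by omega) (by omega)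
    rw [band_eq, Bool.and_eq_true] at this
    exact this.1
  by_cases h8192 : u < 10240
  · have := loopB_spec _ _ _ chk_8192 u (by omega) (by omega)
    rw [band_eq, Bool.and_eq_true] at this
    exact this.1
  by_cases h10240 : u < 12288
  · have := loopB_spec _ _ _ chk_10240 u (by omega) (by omega)
    rw [band_eq, Bool.and_eq_true] at this
    exact this.1
  by_cases h12288 : u < 14336
  · have := loopB_spec _ _ _ chk_12288 u (by omega) (by omega)
    rw [band_eq, Bool.and_eq_true] at this
    exact this.1
  by_cases h14336 : u < 16384
  · have := loopB_spec _ _ _ chk_14336 u (by omega) (by omega)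
    rw [band_eq, Bool.and_eq_true] at this
    exact this.1
  by_cases h16384 : u < 18432
  · have := loopB_spec _ _ _ chk_16384 u (by omega) (by omega)
    rw [band_eq, Bool.and_eq_true] at this
    exact this.1
  by_cases h18432 : u < 20480
  · have := loopB_spec _ _ _ chk_18432 u (by omega) (by omega)
    rw [band_eq, Bool.and_eq_true] at this
    exact this.1
  by_cases h20480 : u < 22528
  · have := loopB_spec _ _ _ chk_20480 u (by omega) (by omega)
    rw [band_eq, Bool.and_eq_true] at this
    exact this.1
  by_cases h22528 : u < 24576
  · have := loopB_spec _ _ _ chk_22528 u (by omega) (by omega)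
    rw [band_eq, Bool.and_eq_true] at this
    exact this.1
  by_cases h24576 : u < 26624
  · have := loopB_spec _ _ _ chk_24576 u (by omega) (by omega)
    rw [band_eq, Bool.and_eq_true] at this
    exact this.1
  by_cases h26624 : u < 28672
  · have := loopB_spec _ _ _ chk_26624 u (by omega) (by omega)
    rw [band_eq, Bool.and_eq_true] at this
    exact this.1
  by_cases h28672 : u < 30720
  · have := loopB_spec _ _ _ chk_28672 u (by omega) (by omega)
    rw [band_eq, Bool.and_eq_true] at this
    exact this.1
  by_cases h30720 : u < 32768
  · have := loopB_spec _ _ _ chk_30720 u (by omega) (by omega)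
    rw [band_eq, Bool.and_eq_true] at this
    exact this.1
  by_cases h32768 : u < 34816
  · have := loopB_spec _ _ _ chk_32768 u (by omega) (by omega)
    rw [band_eq, Bool.and_eq_true] at this
    exact this.1
  by_cases h34816 : u < 36864
  · have := loopB_spec _ _ _ chk_34816 u (by omega) (by omega)
    rw [band_eq, Bool.and_eq_true] at this
    exact this.1
  by_cases h36864 : u < 38912
  · have := loopB_spec _ _ _ chk_36864 u (by omega) (by omega)
    rw [band_eq, Bool.and_eq_true] at this
    exact this.1
  by_cases h38912 : u < 40960
  · have := loopB_spec _ _ _ chk_38912 u (by omega) (by omega)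
    rw [band_eq, Bool.and_eq_true] at this
    exact this.1
  by_cases h40960 : u < 43008
  · have := loopB_spec _ _ _ chk_40960 u (by omega) (by omega)
    rw [band_eq, Bool.and_eq_true] at this
    exact this.1
  by_cases h43008 : u < 45056
  · have := loopB_spec _ _ _ chk_43008 u (by omega) (by omega)
    rw [band_eq, Bool.and_eq_true] at this
    exact this.1
  by_cases h45056 : u < 47104
  · have := loopB_spec _ _ _ chk_45056 u (by omega) (by omega)
    rw [band_eq, Bool.and_eq_true] at this
    exact this.1
  by_cases h47104 : u < 49152
  · have := loopB_spec _ _ _ chk_47104 u (by omega) (by omega)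
    rw [band_eq, Bool.and_eq_true] at this
    exact this.1
  by_cases h49152 : u < 49980
  · have := loopB_spec _ _ _ chk_49152 u (by omega) (by omega)
    rw [band_eq, Bool.and_eq_true] at this
    exact this.1
  by_cases h49980 : u < 50448
  · exact loopB_spec _ _ _ chk_49980 u (by omega) (by omega)
  omega

theorem chk_fin (c : ℕ) (hc : c < nC) : chkFinG row 8 nC 1048575 7 c = true := by
  have hc' : c < 49980 := hc
  by_cases h0 : c < 2048
  · have := loopB_spec _ _ _ chk_0 c (by omega) (by omega)
    rw [band_eq, Bool.and_eq_true] at this
    exact this.2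
  by_cases h2048 : c < 4096
  · have := loopB_spec _ _ _ chk_2048 c (by omega) (by omega)
    rw [band_eq, Bool.and_eq_true] at this
    exact this.2
  by_cases h4096 : c < 6144
  · have := loopB_spec _ _ _ chk_4096 c (by omega) (by omega)
    rw [band_eq, Bool.and_eq_true] at this
    exact this.2
  by_cases h6144 : c < 8192
  · have := loopB_spec _ _ _ chk_6144 c (by omega) (by omega)
    rw [band_eq, Bool.and_eq_true] at this
    exact this.2
  by_cases h8192 : c < 10240
  · have := loopB_spec _ _ _ chk_8192 c (by omega) (by omega)
    rw [band_eq, Bool.and_eq_true] at this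
    exact this.2
  by_cases h10240 : c < 12288
  · have := loopB_spec _ _ _ chk_10240 c (by omega) (by omega)
    rw [band_eq, Bool.and_eq_true] at this
    exact this.2
  by_cases h12288 : c < 14336
  · have := loopB_spec _ _ _ chk_12288 c (by omega) (by omega)
    rw [band_eq, Bool.and_eq_true] at this
    exact this.2
  by_cases h14336 : c < 16384
  · have := loopB_spec _ _ _ chk_14336 c (by omega) (by omega)
    rw [band_eq, Bool.and_eq_true] at this
    exact this.2
  by_cases h16384 : c < 18432
  · have := loopB_spec _ _ _ chk_16384 c (by omega) (by omega)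
    rw [band_eq, Bool.and_eq_true] at this
    exact this.2
  by_cases h18432 : c < 20480
  · have := loopB_spec _ _ _ chk_18432 c (by omega) (by omega)
    rw [band_eq, Bool.and_eq_true] at this
    exact this.2
  by_cases h20480 : c < 22528
  · have := loopB_spec _ _ _ chk_20480 c (by omega) (by omega)
    rw [band_eq, Bool.and_eq_true] at this
    exact this.2
  by_cases h22528 : c < 24576
  · have := loopB_spec _ _ _ chk_22528 c (by omega) (by omega)
    rw [band_eq, Bool.and_eq_true] at this
    exact this.2
  by_cases h24576 : c < 26624
  · have := loopB_spec _ _ _ chk_24576 c (by omega) (by omega)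
    rw [band_eq, Bool.and_eq_true] at this
    exact this.2
  by_cases h26624 : c < 28672
  · have := loopB_spec _ _ _ chk_26624 c (by omega) (by omega)
    rw [band_eq, Bool.and_eq_true] at this
    exact this.2
  by_cases h28672 : c < 30720
  · have := loopB_spec _ _ _ chk_28672 c (by omega) (by omega)
    rw [band_eq, Bool.and_eq_true] at this
    exact this.2
  by_cases h30720 : c < 32768
  · have := loopB_spec _ _ _ chk_30720 c (by omega) (by omega)
    rw [band_eq, Bool.and_eq_true] at this
    exact this.2
  by_cases h32768 : c < 34816
  · have := loopB_spec _ _ _ chk_32768 c (by omega) (by omega)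
    rw [band_eq, Bool.and_eq_true] at this
    exact this.2
  by_cases h34816 : c < 36864
  · have := loopB_spec _ _ _ chk_34816 c (by omega) (by omega)
    rw [band_eq, Bool.and_eq_true] at this
    exact this.2
  by_cases h36864 : c < 38912
  · have := loopB_spec _ _ _ chk_36864 c (by omega) (by omega)
    rw [band_eq, Bool.and_eq_true] at this
    exact this.2
  by_cases h38912 : c < 40960
  · have := loopB_spec _ _ _ chk_38912 c (by omega) (by omega)
    rw [band_eq, Bool.and_eq_true] at this
    exact this.2
  by_cases h40960 : c < 43008
  · have := loopB_spec _ _ _ chk_40960 c (by omega) (by omega)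
    rw [band_eq, Bool.and_eq_true] at this
    exact this.2
  by_cases h43008 : c < 45056
  · have := loopB_spec _ _ _ chk_43008 c (by omega) (by omega)
    rw [band_eq, Bool.and_eq_true] at this
    exact this.2
  by_cases h45056 : c < 47104
  · have := loopB_spec _ _ _ chk_45056 c (by omega) (by omega)
    rw [band_eq, Bool.and_eq_true] at this
    exact this.2
  by_cases h47104 : c < 49152
  · have := loopB_spec _ _ _ chk_47104 c (by omega) (by omega)
    rw [band_eq, Bool.and_eq_true] at this
    exact this.2
  by_cases h49152 : c < 49980
  · have := loopB_spec _ _ _ chk_49152 c (by omega) (by omega)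
    rw [band_eq, Bool.and_eq_true] at this
    exact this.2
  omega

set_option maxRecDepth 100000 in
theorem dp0 : fDp (row 0) = 0 := by decide +kernel

end Cfsg.Agent.Lib.Helper92.He.C49
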