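import Cfsg.Agent.Lib.Helper92.He.CertCM5C0
import Cfsg.Agent.Lib.Helper92.He.CertCM5C1
import Cfsg.Agent.Lib.Helper92.He.CertCM5C2

/-! All checks of the certificate `CM5` (helper92). -/

set_option autoImplicit false

namespace Cfsg.Agent.Lib.Helper92.He.CM5
open Cfsg.Agent.Lib.Helper92.TCert

theorem chk_nodes (u : ℕ) (hu : u < nN) : chkNode row rot 8 nR 0 u = true := by
  have hu' : u < 15270 := hu
  by_cases h0 : u < 2048
  · have := loopB_spec _ _ _ chk_0 u (by omega) (by omega)
    rw [band_eq, Bool.and_eq_true] at this
    exact this.1
  by_cases h2048 : u < 4096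
  · have := loopB_spec _ _ _ chk_2048 u (by omega) (by omega)
    rw [band_eq, Bool.and_eq_true] at this
    exact this.1
  by_cases h4096 : u < 6144
  · have := loopB_spec _ _ _ chk_4096 u (by omega) (by omega)
    rw [band_eq, Bool.and_eq_true] at this
    exact this.1
  by_cases h6144 : u < 8192
  · have := loopB_spec _ _ _ chk_6144 u (by omega) (by omega)
    rw [band_eq, Bool.and_eq_true] at this
    exact this.1
  by_cases h8192 : u < 10240
  · have := loopB_spec _ _ _ chk_8192 u (by omega) (by omega)
    rw [band_eq, Bool.and_eq_true] at this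
    exact this.1
  by_cases h10240 : u < 12288
  · have := loopB_spec _ _ _ chk_10240 u (by omega) (by omega)
    rw [band_eq, Bool.and_eq_true] at this
    exact this.1
  by_cases h12288 : u < 14336
  · have := loopB_spec _ _ _ chk_12288 u (by omega) (by omega)
    rw [band_eq, Bool.and_eq_true] at this
    exact this.1
  by_cases h14336 : u < 15120
  · have := loopB_spec _ _ _ chk_14336 u (by omega) (by omega)
    rw [band_eq, Bool.and_eq_true] at this
    exact this.1
  by_cases h15120 : u < 15270
  · exact loopB_spec _ _ _ chk_15120 u (by omega) (by omega)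
  omega

theorem chk_fin (c : ℕ) (hc : c < nC) : chkFinG row 8 nC 1048575 5 c = true := by
  have hc' : c < 15120 := hc
  by_cases h0 : c < 2048
  · have := loopB_spec _ _ _ chk_0 c (by omega) (by omega)
    rw [band_eq, Bool.and_eq_true] at this
    exact this.2
  by_cases h2048 : c < 4096
  · have := loopB_spec _ _ _ chk_2048 c (by omega) (by omega)
    rw [band_eq, Bool.and_eq_true] at this
    exact this.2
  by_cases h4096 : c < 6144
  · have := loopB_spec _ _ _ chk_4096 c (by omega) (by omega)
    rw [band_eq, Bool.and_eq_true] at this
    exact this.2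
  by_cases h6144 : c < 8192
  · have := loopB_spec _ _ _ chk_6144 c (by omega) (by omega)
    rw [band_eq, Bool.and_eq_true] at this
    exact this.2
  by_cases h8192 : c < 10240
  · have := loopB_spec _ _ _ chk_8192 c (by omega) (by omega)
    rw [band_eq, Bool.and_eq_true] at this
    exact this.2
  by_cases h10240 : c < 12288
  · have := loopB_spec _ _ _ chk_10240 c (by omega) (by omega)
    rw [band_eq, Bool.and_eq_true] at this
    exact this.2
  by_cases h12288 : c < 14336
  · have := loopB_spec _ _ _ chk_12288 c (by omega) (by omega)
    rw [band_eq, Bool.and_eq_true] at this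
    exact this.2
  by_cases h14336 : c < 15120
  · have := loopB_spec _ _ _ chk_14336 c (by omega) (by omega)
    rw [band_eq, Bool.and_eq_true] at this
    exact this.2
  omega

set_option maxRecDepth 100000 in
theorem dp0 : fDp (row 0) = 0 := by decide +kernel

end Cfsg.Agent.Lib.Helper92.He.CM5
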