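import Cfsg.Agent.Lib.Helper92.He.Act
import Cfsg.Prelude.Def_Spor_He

/-!
# The presented Held group acts on 2058 points (helper92)
-/

set_option autoImplicit false

namespace Cfsg.Agent.Lib.Helper92.He
open Cfsg.Agent.Lib.Helper92.VecPerm
open Cfsg.Spor Cfsg.Spor.He

/-- the relators of the presentation -/
abbrev heRels : Set (FreeGroup Gen) := coxRelators edges ∪ {r | r ∈ extra}

/-- the presented group -/
abbrev HG : Type := PresentedGroup heRels

/-- index of a generator: `a, d, e, f, g, c, b` are `0, …, 6` -/
def gi : Gen → ℕ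
  | .a => 0 | .b => 6 | .c => 5 | .d => 1 | .e => 2 | .f => 3 | .g => 4

/-- the permutation of letter `x` -/
noncomputable def gp (x : ℕ) : Equiv.Perm ℕ := netPerm (nets x) (netsOK x)

/-- the permutation of a generator -/
noncomputable def genPerm (x : Gen) : Equiv.Perm ℕ := gp (gi x)

theorem wordPerm_eq_prod (w : List ℕ) : wordPerm netsOK w = (w.map gp).prod := rfl

theorem wp_eq {u v : List ℕ} (h : eqCheck nets 12 u v = true) :
    (u.map gp).prod = (v.map gp).prod := by
  rw [← wordPerm_eq_prod, ← wordPerm_eq_prod]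
  exact wordPerm_eq_of_check netsOK (by norm_num) h

theorem prod_coxWord (x y m : ℕ) : ((coxWord x y m).map gp).prod = (gp x * gp y) ^ m := by
  induction m with
  | zero => simp [coxWord]
  | succ m ih =>
    unfold coxWord at ih ⊢
    rw [List.replicate_succ, List.flatten_cons, List.map_append, List.prod_append, ih, pow_succ']
    simp

theorem cox_all (i j : ℕ) (hi : i < 7) (hj : j < 7) : (gp i * gp j) ^ (lblN i j) = 1 := by
  have h := chk_cox
  rw [List.all_eq_true] at h
  have h1 := h i (List.mem_range.mpr hi)
  rw [List.all_eq_true] at h1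
  have h2 := wp_eq (h1 j (List.mem_range.mpr hj))
  rw [prod_coxWord] at h2
  simpa using h2

theorem gi_lt (x : Gen) : gi x < 7 := by cases x <;> simp [gi]

theorem coxLabel_eq (x y : Gen) : coxLabel edges x y = lblN (gi x) (gi y) := by
  cases x <;> cases y <;> rfl

theorem gp_sq (i : ℕ) (hi : i < 7) : gp i * gp i = 1 := by
  have h := cox_all i i hi hi
  have e : lblN i i = 1 := by simp [lblN]
  rwa [e, pow_one] at h

theorem gp_inv (i : ℕ) (hi : i < 7) : (gp i)⁻¹ = gp i :=
  inv_eq_of_mul_eq_one_left (gp_sq i hi)

theorem e_r1 : gp 2 = (gp 3 * gp 4) ^ 2 := by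
  have := wp_eq chk_r1
  simp only [List.map_cons, List.map_nil, List.prod_cons, List.prod_nil, mul_one] at this
  rw [this]; simp only [pow_succ, pow_zero, one_mul, mul_assoc]

theorem e_r2 : gp 2 = (gp 0 * gp 6 * gp 5) ^ 3 := by
  have := wp_eq chk_r2
  simp only [List.map_cons, List.map_nil, List.prod_cons, List.prod_nil, mul_one] at this
  rw [this]; simp only [pow_succ, pow_zero, one_mul, mul_assoc]

theorem e_r3 : gp 0 = (gp 5 * gp 1) ^ 5 := by
  have := wp_eq chk_r3
  simp only [List.map_cons, List.map_nil, List.prod_cons, List.prod_nil, mul_one] at this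
  rw [this]; simp only [pow_succ, pow_zero, one_mul, mul_assoc]

theorem e_r4 : (gp 5 * gp 1 * gp 3 * gp 4) ^ 4 = 1 := by
  have := wp_eq chk_r4
  simp only [List.map_cons, List.map_nil, List.prod_cons, List.prod_nil, mul_one] at this
  rw [← this]; simp only [pow_succ, pow_zero, one_mul, mul_assoc]

theorem lift_rel (r : FreeGroup Gen) (hr : r ∈ heRels) : FreeGroup.lift genPerm r = 1 := by
  rcases hr with hr | hr
  · obtain ⟨x, _, y, _, rfl⟩ := hr
    rw [map_pow, map_mul, FreeGroup.lift_apply_of, FreeGroup.lift_apply_of, coxLabel_eq]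
    exact cox_all _ _ (gi_lt x) (gi_lt y)
  · have hr' : r ∈ extra := hr
    simp only [extra, List.mem_cons, List.not_mem_nil, or_false] at hr'
    rcases hr' with rfl | rfl | rfl | rfl
    · simp only [map_mul, map_inv, map_pow, FreeGroup.lift_apply_of, genPerm, gi]
      rw [← e_r1]; group
    · simp only [map_mul, map_inv, map_pow, FreeGroup.lift_apply_of, genPerm, gi]
      rw [← e_r2]; group
    · simp only [map_mul, map_inv, map_pow, FreeGroup.lift_apply_of, genPerm, gi]
      rw [← e_r3]; group
    · simp only [map_mul, map_pow, FreeGroup.lift_apply_of, genPerm, gi]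
      exact e_r4

/-- the action of the presented group on `ℕ` -/
noncomputable def phi : HG →* Equiv.Perm ℕ :=
  PresentedGroup.toGroup (f := genPerm) lift_rel

theorem phi_of (x : Gen) : phi (PresentedGroup.of x) = genPerm x := PresentedGroup.toGroup.of _

end Cfsg.Agent.Lib.Helper92.He
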