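import Cfsg.Agent.Lib.Helper92.He.Upper
import Cfsg.Agent.Lib.Helper92.VecPerm4
import Cfsg.Agent.Lib.Helper92.SimpleAux2

/-!
# The presented Held group is simple of order 4030387200 (helper92)
-/

set_option autoImplicit false

namespace Cfsg.Agent.Lib.Helper92.He
open Cfsg.Agent.Lib.Helper92.VecPerm
open Cfsg.Agent.Lib.Helper92.TCert
open Cfsg.Agent.Lib.Helper92.SimpleAux
open Cfsg.Spor Cfsg.Spor.He

theorem phi_lv (x : ℕ) (hx : x < 7) : phi (lv x) = gp x := by
  interval_cases x <;> exact phi_of _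

theorem gp_apply (x i : ℕ) : gp x i = netP (nets x) i := rfl

/-- the action preserves the set of the first 2058 points -/
theorem phi_lt (g : HG) : ∀ i, phi g i < 2058 ↔ i < 2058 := by
  have hg : g ∈ Subgroup.closure (Set.range (PresentedGroup.of : Gen → HG)) := by
    rw [PresentedGroup.closure_range_of]; trivial
  induction hg using Subgroup.closure_induction with
  | mem y hy =>
    obtain ⟨z, rfl⟩ := hy
    intro i
    rw [phi_of]
    show netP (nets (gi z)) i < 2058 ↔ i < 2058
    exact pres_of_checkG netsOK [0, 1, 2, 3, 4, 5, 6] 2058 chk_pres (gi z) (by cases z <;> simp [gi]) i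
  | one => intro i; simp
  | mul y z _ _ ihy ihz =>
    intro i
    rw [map_mul, Equiv.Perm.mul_apply, ihy, ihz]
  | inv y _ ih =>
    intro i
    have h := ih (phi y⁻¹ i)
    simp only [map_inv, Equiv.Perm.inv_def, Equiv.apply_symm_apply] at h
    simp only [map_inv, Equiv.Perm.inv_def]
    exact h.symm

/-- the action on the 2058 points -/
noncomputable def psi : HG →* Equiv.Perm (Fin 2058) where
  toFun g :=
    { toFun := fun i => ⟨phi g i.val, (phi_lt g i.val).mpr i.isLt⟩
      invFun := fun i => ⟨phi g⁻¹ i.val, (phi_lt g⁻¹ i.val).mpr i.isLt⟩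
      left_inv := fun i => Fin.ext (by simp [map_inv])
      right_inv := fun i => Fin.ext (by simp [map_inv]) }
  map_one' := by ext i; simp
  map_mul' := fun g h => by ext i; simp [map_mul]

theorem psi_val (g : HG) (i : Fin 2058) : (psi g i).val = phi g i.val := rfl

/-- the action as a `MulAction` -/
noncomputable instance actHe : MulAction HG (Fin 2058) := MulAction.compHom _ psi

theorem smul_val (g : HG) (i : Fin 2058) : (g • i).val = phi g i.val := rfl

/-- value of a word of letters in the group -/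
noncomputable def evW (w : List ℕ) : HG := (w.map lv).prod

theorem phi_evW (w : List ℕ) (hw : ∀ x ∈ w, x < 7) : phi (evW w) = wordPerm netsOK w := by
  induction w with
  | nil => simp [evW, wordPerm]
  | cons x w ih =>
    have h1 : evW (x :: w) = lv x * evW w := by simp [evW]
    have h2 : wordPerm netsOK (x :: w) = gp x * wordPerm netsOK w := by
      simp [wordPerm, gp]
    rw [h1, h2, map_mul, phi_lv x (hw x List.mem_cons_self),
      ih (fun y hy => hw y (List.mem_cons_of_mem _ hy))]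

/-- the subgroup generated by a list of words -/
noncomputable def genSub (ws : List (List ℕ)) : Subgroup HG :=
  Subgroup.closure {g | ∃ w ∈ ws, g = evW w}

theorem genSub_mono {ws vs : List (List ℕ)} (h : ∀ w ∈ ws, w ∈ vs) : genSub ws ≤ genSub vs := by
  unfold genSub
  apply Subgroup.closure_mono
  rintro g ⟨w, hw, rfl⟩
  exact ⟨w, h w hw, rfl⟩

/-- orbits computed by the networks are orbits of subgroups generated by words -/
theorem reachW_mem (ws : List (List ℕ)) (hws : ∀ w ∈ ws, ∀ x ∈ w, x < 7) (s k i : ℕ)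
    (h : (reachFromW nets ws (2 ^ s) k).testBit i = true) : ∃ g ∈ genSub ws, phi g s = i := by
  have hg' : ∀ w ∈ ws, wordPerm netsOK w ∈ (genSub ws).map phi := by
    intro w hw
    exact ⟨evW w, Subgroup.subset_closure ⟨w, hw, rfl⟩, phi_evW w (hws w hw)⟩
  obtain ⟨σ, ⟨g, hgL, rfl⟩, hσ⟩ := reachFromW_sound netsOK ((genSub ws).map phi) ws hg' s k i h
  exact ⟨g, hgL, hσ⟩

/-- a point fixed by all the words is fixed by the subgroup -/
theorem fix_genSub (ws : List (List ℕ)) (hws : ∀ w ∈ ws, ∀ x ∈ w, x < 7) (s : ℕ)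
    (h : ∀ w ∈ ws, wordP nets w s = s) (g : HG) (hg : g ∈ genSub ws) : phi g s = s := by
  unfold genSub at hg
  induction hg using Subgroup.closure_induction with
  | mem y hy =>
    obtain ⟨w, hw, rfl⟩ := hy
    rw [phi_evW w (hws w hw), wordPerm_apply]
    exact h w hw
  | one => simp
  | mul y z _ _ ihy ihz => rw [map_mul, Equiv.Perm.mul_apply, ihz, ihy]
  | inv y _ ih =>
    rw [map_inv, Equiv.Perm.inv_def, Equiv.symm_apply_eq, ih]

theorem gens1_lt : ∀ w ∈ gens1, ∀ x ∈ w, x < 7 := by decide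
theorem gens2_lt : ∀ w ∈ gens2, ∀ x ∈ w, x < 7 := by decide
theorem gens3_lt : ∀ w ∈ gens3, ∀ x ∈ w, x < 7 := by decide

theorem gens2_sub : ∀ w ∈ gens2, w ∈ gens1 := by decide

/-- the stabilizer of the point 0 (a subgroup of it) -/
noncomputable def H1 : Subgroup HG := genSub gens1
/-- the stabilizer of the points 0, 1 (a subgroup of it) -/
noncomputable def H2 : Subgroup HG := genSub gens2
/-- the stabilizer of the points 0, 1, 15 (a subgroup of it) -/
noncomputable def H3 : Subgroup HG := genSub gens3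

theorem fix1_0 (g : HG) (hg : g ∈ H1) : phi g 0 = 0 := by
  refine fix_genSub gens1 gens1_lt 0 ?_ g hg
  intro w hw
  have h := chk_fix1
  rw [List.all_eq_true] at h
  exact fixW_of_check netsOK w 0 (h w hw)

theorem fix2_0 (g : HG) (hg : g ∈ H2) : phi g 0 = 0 := by
  refine fix_genSub gens2 gens2_lt 0 ?_ g hg
  intro w hw
  have h := chk_fix2
  rw [List.all_eq_true] at h
  have h2 := h w hw
  rw [Bool.and_eq_true] at h2
  exact fixW_of_check netsOK w 0 h2.1

theorem fix2_1 (g : HG) (hg : g ∈ H2) : phi g 1 = 1 := by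
  refine fix_genSub gens2 gens2_lt 1 ?_ g hg
  intro w hw
  have h := chk_fix2
  rw [List.all_eq_true] at h
  have h2 := h w hw
  rw [Bool.and_eq_true] at h2
  exact fixW_of_check netsOK w 1 h2.2

theorem fix3_0 (g : HG) (hg : g ∈ H3) : phi g 0 = 0 := by
  refine fix_genSub gens3 gens3_lt 0 ?_ g hg
  intro w hw
  have h := chk_fix3
  rw [List.all_eq_true] at h
  have h2 := h w hw
  rw [Bool.and_eq_true, Bool.and_eq_true] at h2
  exact fixW_of_check netsOK w 0 h2.1

theorem fix3_1 (g : HG) (hg : g ∈ H3) : phi g 1 = 1 := by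
  refine fix_genSub gens3 gens3_lt 1 ?_ g hg
  intro w hw
  have h := chk_fix3
  rw [List.all_eq_true] at h
  have h2 := h w hw
  rw [Bool.and_eq_true, Bool.and_eq_true] at h2
  exact fixW_of_check netsOK w 1 h2.2.1

theorem fix3_15 (g : HG) (hg : g ∈ H3) : phi g 15 = 15 := by
  refine fix_genSub gens3 gens3_lt 15 ?_ g hg
  intro w hw
  have h := chk_fix3
  rw [List.all_eq_true] at h
  have h2 := h w hw
  rw [Bool.and_eq_true, Bool.and_eq_true] at h2
  exact fixW_of_check netsOK w 15 h2.2.2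

/-- the five orbits of the stabilizer of 0 -/
noncomputable def Sorb (j : Fin 5) : Finset (Fin 2058) :=
  Finset.univ.filter (fun i => (msk j.val).testBit i.val = true)

/-- the orbit of the point 15 under the stabilizer of 0, 1 -/
noncomputable def Corb : Finset (Fin 2058) :=
  Finset.univ.filter (fun i => mskC.testBit i.val = true)

/-- the orbit of the point 34 under the stabilizer of 0, 1, 15 -/
noncomputable def Dorb : Finset (Fin 2058) :=
  Finset.univ.filter (fun i => mskD.testBit i.val = true)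

theorem mem_Sorb (j : Fin 5) (i : Fin 2058) : i ∈ Sorb j ↔ (msk j.val).testBit i.val = true := by
  simp [Sorb]

theorem Sorb_card (j : Fin 5) : (Sorb j).card = szOf j.val := by
  unfold Sorb
  rw [card_filter_fin 2058 (fun i => (msk j.val).testBit i = true), ← popTop_eq]
  have h := chk_pop
  rw [List.all_eq_true] at h
  exact Nat.eq_of_beq_eq_true (h j.val (List.mem_range.mpr j.isLt))

theorem Corb_card : Corb.card = 360 := by
  unfold Corb
  rw [card_filter_fin 2058 (fun i => mskC.testBit i = true), ← popTop_eq]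
  exact chk_popC

theorem Dorb_card : Dorb.card = 4 := by
  unfold Dorb
  rw [card_filter_fin 2058 (fun i => mskD.testBit i = true), ← popTop_eq]
  exact chk_popD

theorem Sorb_zero : Sorb 0 = ({(0 : Fin 2058)} : Finset (Fin 2058)) := by
  ext i
  rw [mem_Sorb, Finset.mem_singleton]
  show (msk 0).testBit i.val = true ↔ _
  rw [msk_zero]
  have e : (1 : ℕ) = 2 ^ 0 := rfl
  rw [e, Nat.testBit_two_pow]
  constructor
  · intro h
    apply Fin.ext
    have : 0 = i.val := by simpa using h
    exact this.symm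
  · rintro rfl; simp

theorem lor_testBit (a b i : ℕ) : (Nat.lor a b).testBit i = (a.testBit i || b.testBit i) :=
  Nat.testBit_or a b i

theorem Sorb_cover (i : Fin 2058) : ∃ j, i ∈ Sorb j := by
  have h' := cover_of_checkG _ 2058 chk_cover i.val i.isLt
  simp only [lor_testBit, Bool.or_eq_true] at h'
  rcases h' with h' | h' | h' | h' | h'
  · exact ⟨0, (mem_Sorb 0 i).mpr h'⟩
  · exact ⟨1, (mem_Sorb 1 i).mpr h'⟩
  · exact ⟨2, (mem_Sorb 2 i).mpr h'⟩
  · exact ⟨3, (mem_Sorb 3 i).mpr h'⟩
  · exact ⟨4, (mem_Sorb 4 i).mpr h'⟩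

theorem Sorb_disj (i j : Fin 5) (hij : i ≠ j) : Disjoint (Sorb i) (Sorb j) := by
  have h := chk_disj
  rw [List.all_eq_true] at h
  have h2 := h i.val (List.mem_range.mpr i.isLt)
  rw [List.all_eq_true] at h2
  have h3 := h2 j.val (List.mem_range.mpr j.isLt)
  rw [Bool.or_eq_true] at h3
  have hne : i.val ≠ j.val := fun e => hij (Fin.ext e)
  have h4 : msk i.val &&& msk j.val = 0 := by
    rcases h3 with h3 | h3
    · exact absurd (Nat.eq_of_beq_eq_true h3) hne
    · exact Nat.eq_of_beq_eq_true h3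
  rw [Finset.disjoint_left]
  intro x hx hy
  rw [mem_Sorb] at hx hy
  have : (msk i.val &&& msk j.val).testBit x.val = true := by
    rw [Nat.testBit_and, hx, hy]; rfl
  rw [h4] at this
  simp at this

/-- the points of an orbit are images of its seed under the stabilizer of 0 -/
theorem Sorb_reach (j : Fin 5) (x : Fin 2058) (hx : x ∈ Sorb j) :
    ∃ h ∈ H1, phi h (seedOf j.val) = x.val := by
  rw [mem_Sorb] at hx
  exact reachW_mem gens1 gens1_lt (seedOf j.val) (roundsOf j.val) x.val hx

theorem Sorb_orb (j : Fin 5) (x : Fin 2058) (hx : x ∈ Sorb j) (y : Fin 2058) (hy : y ∈ Sorb j) :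
    ∃ h ∈ H1, h • x = y := by
  obtain ⟨h1, hh1, e1⟩ := Sorb_reach j x hx
  obtain ⟨h2, hh2, e2⟩ := Sorb_reach j y hy
  refine ⟨h2 * h1⁻¹, H1.mul_mem hh2 (H1.inv_mem hh1), Fin.ext ?_⟩
  rw [smul_val, ← e1, ← e2, map_mul, map_inv, Equiv.Perm.mul_apply]
  simp only [Equiv.Perm.inv_def, Equiv.symm_apply_apply]

theorem fix0 (h : HG) (hh : h ∈ H1) : h • (0 : Fin 2058) = 0 :=
  Fin.ext (fix1_0 h hh)

/-- the orbit of `0` contains the first 2058 numbers -/
theorem phi_orbit (i : ℕ) (hi : i < 2058) : ∃ g : HG, phi g 0 = i := by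
  have hg : ∀ x ∈ [0, 1, 2, 3, 4, 5, 6], netPerm (nets x) (netsOK x) ∈ phi.range := by
    intro x hx
    have hx7 : x < 7 := by
      simp only [List.mem_cons, List.not_mem_nil, or_false] at hx
      omega
    exact ⟨lv x, phi_lv x hx7⟩
  obtain ⟨σ, ⟨g, rfl⟩, h⟩ :=
    orbit_of_check netsOK phi.range [0, 1, 2, 3, 4, 5, 6] hg 24 2058 chk_orbit i hi
  exact ⟨g, h⟩

theorem trans0 (x : Fin 2058) : ∃ g : HG, g • (0 : Fin 2058) = x := by
  obtain ⟨g, hg⟩ := phi_orbit x.val x.isLt
  exact ⟨g, Fin.ext hg⟩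

/-- the order, and faithfulness on the four base points -/
theorem card_and_faithful : Nat.card HG = 4030387200 ∧
    ∀ g : HG, g • (0 : Fin 2058) = 0 → g • (1 : Fin 2058) = 1 → g • (15 : Fin 2058) = 15 →
      g • (34 : Fin 2058) = 34 → g = 1 := by
  obtain ⟨hfin, hle⟩ := card_HG_le
  have hA : ∀ x ∈ (Finset.univ : Finset (Fin 2058)), ∃ g : HG, g • (0 : Fin 2058) = x :=
    fun x _ => trans0 x
  have hB : ∀ x ∈ Sorb 1, ∃ g : HG, g • (0 : Fin 2058) = 0 ∧ g • (1 : Fin 2058) = x := by
    intro x hx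
    obtain ⟨h, hh, e⟩ := Sorb_reach 1 x hx
    exact ⟨h, fix0 h hh, Fin.ext e⟩
  have hC : ∀ x ∈ Corb, ∃ g : HG, g • (0 : Fin 2058) = 0 ∧ g • (1 : Fin 2058) = 1 ∧
      g • (15 : Fin 2058) = x := by
    intro x hx
    have hx' : mskC.testBit x.val = true := by simpa [Corb] using hx
    obtain ⟨m, hm, e⟩ := reachW_mem gens2 gens2_lt 15 11 x.val hx'
    exact ⟨m, Fin.ext (fix2_0 m hm), Fin.ext (fix2_1 m hm), Fin.ext e⟩
  have hD : ∀ x ∈ Dorb, ∃ g : HG, g • (0 : Fin 2058) = 0 ∧ g • (1 : Fin 2058) = 1 ∧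
      g • (15 : Fin 2058) = 15 ∧ g • (34 : Fin 2058) = x := by
    intro x hx
    have hx' : mskD.testBit x.val = true := by simpa [Dorb] using hx
    obtain ⟨m, hm, e⟩ := reachW_mem gens3 gens3_lt 34 2 x.val hx'
    exact ⟨m, Fin.ext (fix3_0 m hm), Fin.ext (fix3_1 m hm), Fin.ext (fix3_15 m hm), Fin.ext e⟩
  have hcards : (Finset.univ : Finset (Fin 2058)).card * (Sorb 1).card * Corb.card * Dorb.card
      = 4030387200 := by
    rw [Finset.card_univ, Fintype.card_fin, Sorb_card, Corb_card, Dorb_card]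
    rfl
  have key := chain4_eq_and_faithful (G := HG) (0 : Fin 2058) 1 15 34 Finset.univ (Sorb 1) Corb Dorb
    hA hB hC hD (by rw [hcards]; exact hle)
  rw [hcards] at key
  exact key

theorem card_HG : Nat.card HG = 4030387200 := card_and_faithful.1

theorem faithful (g : HG) (hg : ∀ x : Fin 2058, g • x = x) : g = 1 :=
  card_and_faithful.2 g (hg 0) (hg 1) (hg 15) (hg 34)

theorem g7_eq : g7 ^ 7 = evW g7word := by
  simp only [evW, g7word, g7, lv, List.map_cons, List.map_nil, List.prod_cons, List.prod_nil, mul_one,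
    pow_succ, pow_zero, one_mul, mul_assoc]

theorem g7_pow7 : g7 ^ 7 = 1 := by
  apply faithful
  intro x
  apply Fin.ext
  rw [smul_val, g7_eq, phi_evW g7word (by decide)]
  have e : wordPerm netsOK g7word = wordPerm netsOK [] :=
    wordPerm_eq_of_check netsOK (by norm_num) chk_g7
  rw [e]
  rfl

theorem g7_pow : g7 ^ (7 ^ 3) = 1 := by
  have e : (7 : ℕ) ^ 3 = 7 * 49 := by norm_num
  rw [e, pow_mul, g7_pow7, one_pow]

theorem harith : ∀ J : Finset (Fin 5), (0 : Fin 5) ∈ J → (∑ j ∈ J, szOf j.val) ∣ 2058 →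
    J = {0} ∨ J = Finset.univ := by
  decide

/-- the presented Held group is simple -/
theorem simple_HG : IsSimpleGroup HG := by
  obtain ⟨hfin, _⟩ := card_HG_le
  have : Fact (Nat.Prime 7) := ⟨by norm_num⟩
  refine simple_of_suborbits (G := HG) (X := Fin 2058) (0 : Fin 2058) H1 fix0 trans0 faithful Sorb 0
    Sorb_zero Sorb_cover Sorb_disj Sorb_orb ?_ 7 3 ?_ ?_ g7 g7_pow normalClosure_g7 ?_
  · intro J h0 hd
    rw [Fintype.card_fin] at hd
    have e : ∑ j ∈ J, (Sorb j).card = ∑ j ∈ J, szOf j.val :=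
      Finset.sum_congr rfl (fun j _ => Sorb_card j)
    rw [e] at hd
    exact harith J h0 hd
  · rw [card_HG]; norm_num
  · rw [Fintype.card_fin]; norm_num
  · rw [Fintype.card_fin]; norm_num

end Cfsg.Agent.Lib.Helper92.He
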