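import Cfsg.Agent.Lib.Helper92.He.S44Main
import Cfsg.Prelude.Def_Sporadic

/-!
# The Held group as a transitive permutation group of degree 2058 (helper92)

The image of the presented Held group in `Equiv.Perm (Fin 2058)`; the point stabiliser has the
index-2 subgroup `≅ Sp(4, 4)`.
-/

set_option autoImplicit false

namespace Cfsg.Agent.Lib.Helper92.He.PermReal
open Cfsg.Agent.Lib.Helper92.He
open Cfsg.Agent.Lib.Helper92.He.S44
open Cfsg.Agent.Lib.Helper36 (F4)
open Cfsg.Spor Cfsg.Spor.He

/-- the permutation representation is injective -/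
theorem psi_injective : Function.Injective psi := by
  rw [← MonoidHom.ker_eq_bot_iff, Subgroup.eq_bot_iff_forall]
  intro g hg
  apply faithful
  intro x
  have h1 : psi g = 1 := MonoidHom.mem_ker.mp hg
  show psi g x = x
  rw [h1]
  rfl

/-- the permutation group -/
noncomputable def HP : Subgroup (Equiv.Perm (Fin 2058)) := psi.range

/-- the isomorphism with the presented group -/
noncomputable def eHP : HG ≃* HP := MonoidHom.ofInjective psi_injective

theorem eHP_smul (g : HG) (x : Fin 2058) : (eHP g) • x = g • x := rfl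

theorem isHe_HP : Cfsg.IsHe HP := by
  refine ⟨?_, ?_⟩
  · have := simple_HG
    exact eHP.symm.isSimpleGroup
  · rw [Nat.card_congr eHP.symm.toEquiv]
    exact card_HG

theorem finite_HP : Finite HP := by
  have := finite_HG
  exact Finite.of_equiv _ eHP.toEquiv

theorem trans_HP : MulAction.IsPretransitive HP (Fin 2058) := by
  constructor
  intro x y
  obtain ⟨g1, hg1⟩ := trans0 x
  obtain ⟨g2, hg2⟩ := trans0 y
  refine ⟨eHP (g2 * g1⁻¹), ?_⟩
  rw [eHP_smul, mul_smul, ← hg1, inv_smul_smul, hg2]

/-- the stabilizer of the point 0 -/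
noncomputable def SP : Subgroup HP := MulAction.stabilizer HP (0 : Fin 2058)

theorem card_SP : Nat.card SP = 1958400 := by
  have := finite_HP
  have := trans_HP
  have horb : MulAction.orbit HP (0 : Fin 2058) = Set.univ := MulAction.orbit_eq_univ _ _
  have h1 : Nat.card (MulAction.orbit HP (0 : Fin 2058)) = 2058 := by
    rw [horb, Nat.card_congr (Equiv.Set.univ _), Nat.card_eq_fintype_card, Fintype.card_fin]
  have h2 := Nat.card_congr (MulAction.orbitEquivQuotientStabilizer HP (0 : Fin 2058))
  have h3 := Subgroup.card_eq_card_quotient_mul_card_subgroup (MulAction.stabilizer HP (0 : Fin 2058))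
  rw [← h2, h1, isHe_HP.2] at h3
  show Nat.card (MulAction.stabilizer HP (0 : Fin 2058)) = 1958400
  generalize Nat.card (MulAction.stabilizer HP (0 : Fin 2058)) = k at h3
  omega

/-- the image of the subgroup `≅ Sp(4, 4)` -/
noncomputable def NP : Subgroup HP := N0.map eHP.toMonoidHom

theorem NP_le : NP ≤ SP := by
  rintro _ ⟨g, hg, rfl⟩
  show (eHP g) • (0 : Fin 2058) = 0
  rw [eHP_smul]
  exact (N0_le_H1.trans H1_le_S0) hg

/-- `NP ≃* Sp(4, 4)` -/
noncomputable def isoNP : NP ≃* Sp44 := (eHP.subgroupMap N0).symm.trans isoN0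

theorem card_NP : Nat.card NP = 979200 := by
  rw [Nat.card_congr isoNP.toEquiv]
  exact card_Sp44

theorem main : ∃ H : Subgroup (Equiv.Perm (Fin 2058)), Cfsg.IsHe H ∧
    MulAction.IsPretransitive H (Fin 2058) ∧ ∃ (F : Type) (_ : Field F) (_ : Fintype F),
      Fintype.card F = 4 ∧ ∃ N : Subgroup (MulAction.stabilizer H (0 : Fin 2058)), N.index = 2 ∧
        Nonempty (N ≃* Matrix.symplecticGroup (Fin 2) F) := by
  refine ⟨HP, isHe_HP, trans_HP, F4, inferInstance, inferInstance, F4.card_eq, NP.subgroupOf SP, ?_, ?_⟩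
  · have := finite_HP
    have e : Nat.card (NP.subgroupOf SP) = 979200 := by
      rw [Nat.card_congr (Subgroup.subgroupOfEquivOfLe NP_le).toEquiv]
      exact card_NP
    have hidx : (NP.subgroupOf SP).index = 2 := by
      have hmul := (NP.subgroupOf SP).index_mul_card
      rw [e, card_SP] at hmul
      generalize (NP.subgroupOf SP).index = k at hmul ⊢
      omega
    exact hidx
  · exact ⟨(Subgroup.subgroupOfEquivOfLe NP_le).trans isoNP⟩

end Cfsg.Agent.Lib.Helper92.He.PermReal
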