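import Mathlib

/-!
# Data for the action of `⟨a, c, d, e, f, (bcde)^7⟩ ≤ He` on 85 blocks (helper92)

Generated offline; everything here is checked by the kernel in `S44Blocks.lean` and `S44Iso.lean`.
Letters `a, d, e, f, g, c, b` of the Held presentation are `0, …, 6`; the elements of the field with
four elements `0, 1, ω, ω²` are written `0, 1, 2, 3`.
-/

set_option autoImplicit false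

namespace Cfsg.Agent.Lib.Helper92.He.S44

set_option maxRecDepth 1000000 in
/-- the 85 blocks, each a list of 5 of the 2058 points -/
def blkPts : List (List ℕ) := [
  [2, 252, 338, 382, 506],
  [5, 160, 236, 613, 841],
  [9, 246, 350, 975, 1256],
  [10, 95, 153, 976, 1257],
  [11, 161, 237, 977, 1258],
  [19, 376, 556, 1388, 1410],
  [20, 158, 234, 1411, 1684],
  [21, 248, 355, 1371, 1685],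
  [22, 162, 238, 1413, 1687],
  [23, 70, 73, 118, 123],
  [36, 605, 891, 960, 1315],
  [37, 606, 892, 1785, 1796],
  [38, 249, 356, 1474, 1786],
  [39, 250, 357, 1774, 1979],
  [40, 253, 359, 1800, 1980],
  [41, 42, 72, 119, 187],
  [43, 120, 126, 188, 196],
  [66, 961, 1316, 1389, 1408],
  [67, 379, 565, 1041, 1390],
  [68, 380, 566, 1407, 1753],
  [69, 612, 908, 974, 1346],
  [71, 74, 124, 190, 291],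
  [76, 192, 202, 293, 303],
  [116, 1391, 1425, 1482, 1734],
  [117, 611, 666, 907, 973],
  [122, 128, 198, 297, 454],
  [131, 299, 313, 456, 474],
  [132, 211, 314, 457, 475],
  [133, 205, 306, 331, 742],
  [148, 227, 344, 345, 549],
  [195, 204, 305, 464, 741],
  [208, 467, 501, 748, 784],
  [209, 330, 502, 749, 785],
  [210, 318, 482, 539, 1130],
  [302, 317, 481, 766, 1129],
  [307, 696, 753, 1973, 2033],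
  [324, 769, 833, 846, 1183],
  [325, 770, 834, 1138, 1184],
  [326, 771, 835, 1139, 1185],
  [328, 538, 798, 837, 1141],
  [329, 512, 799, 876, 1140],
  [428, 485, 1148, 1850, 2029],
  [458, 486, 1070, 1856, 1858],
  [470, 508, 795, 1162, 1244],
  [471, 509, 796, 1163, 1541],
  [472, 510, 797, 1164, 1542],
  [476, 751, 1176, 1909, 1969],
  [483, 1084, 1143, 1851, 1860],
  [484, 743, 862, 1676, 1930],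
  [499, 778, 1144, 1572, 1671],
  [523, 1156, 1245, 1269, 1603],
  [524, 764, 802, 1246, 1604],
  [526, 875, 1205, 1248, 1551],
  [527, 1171, 1249, 1552, 1605],
  [532, 812, 1202, 1252, 1555],
  [533, 874, 1207, 1253, 1556],
  [535, 849, 1208, 1270, 1300],
  [536, 847, 1203, 1301, 1553],
  [537, 850, 1209, 1302, 1554],
  [664, 803, 1206, 1499, 1835],
  [687, 752, 806, 1508, 1946],
  [694, 804, 1560, 1681, 1892],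
  [697, 805, 1200, 1678, 1888],
  [729, 1146, 1216, 1633, 1727],
  [750, 801, 1500, 1510, 2022],
  [777, 825, 1201, 1571, 1670],
  [780, 848, 1204, 1574, 1876],
  [786, 1142, 1589, 1805, 1859],
  [800, 1131, 1283, 1698, 1972],
  [829, 1023, 1559, 1907, 1949],
  [845, 1264, 1582, 1697, 1896],
  [860, 1565, 1641, 1673, 1900],
  [861, 1160, 1212, 1674, 1929],
  [865, 1122, 1287, 1585, 1915],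
  [870, 1220, 1626, 1642, 1891],
  [871, 1273, 1632, 1643, 1701],
  [872, 1147, 1214, 1627, 1726],
  [873, 1083, 1145, 1215, 1628],
  [1039, 1213, 1298, 1470, 1630],
  [1127, 1299, 1471, 1638, 1723],
  [1170, 1266, 1580, 1636, 1914],
  [1175, 1233, 1625, 1657, 1906],
  [1178, 1272, 1536, 1591, 1699],
  [1187, 1268, 1558, 1583, 1985],
  [1211, 1267, 1544, 1584, 2046]]

set_option maxRecDepth 1000000 in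
/-- the macro generators `a, c, d, e, f, (bcde)^7` and the inverse of the last, as words -/
def MGL : List (List ℕ) := [
  [0],
  [5],
  [1],
  [2],
  [3],
  [6, 5, 1, 2, 6, 5, 1, 2, 6, 5, 1, 2, 6, 5, 1, 2, 6, 5, 1, 2, 6, 5, 1, 2, 6, 5, 1, 2],
  [2, 1, 5, 6, 2, 1, 5, 6, 2, 1, 5, 6, 2, 1, 5, 6, 2, 1, 5, 6, 2, 1, 5, 6, 2, 1, 5, 6]]

set_option maxRecDepth 1000000 in
/-- the permutations of the blocks induced by the macro generators -/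
def PtL : List (List ℕ) := [
  [0, 1, 2, 3, 4, 5, 6, 7, 8, 15, 10, 11, 12, 13, 14, 9, 21, 17, 18, 19, 20, 16, 25, 23, 24, 22, 30, 28, 27, 29, 26, 34, 33, 32, 31, 42, 43, 44, 45, 40, 39, 60, 35, 36, 37, 38, 48, 64, 46, 51, 65, 49, 57, 66, 56, 58, 54, 52, 55, 77, 41, 63, 76, 61, 47, 50, 53, 68, 67, 72, 80, 81, 69, 82, 75, 74, 62, 59, 79, 78, 70, 71, 73, 84, 83],
  [0, 2, 1, 6, 7, 10, 3, 4, 13, 9, 5, 17, 18, 8, 14, 15, 16, 11, 12, 20, 19, 21, 26, 23, 24, 30, 22, 32, 33, 29, 25, 36, 27, 28, 43, 47, 31, 50, 51, 54, 56, 59, 64, 34, 65, 49, 67, 35, 68, 45, 37, 38, 62, 72, 39, 61, 40, 76, 63, 41, 77, 55, 52, 58, 42, 44, 69, 46, 48, 66, 70, 71, 53, 73, 74, 75, 57, 60, 78, 79, 80, 81, 82, 83, 84],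
  [1, 0, 5, 3, 4, 2, 12, 13, 14, 15, 10, 19, 6, 7, 8, 9, 22, 23, 24, 11, 20, 25, 16, 17, 18, 21, 31, 28, 27, 29, 34, 26, 39, 40, 30, 41, 43, 52, 45, 32, 33, 35, 60, 36, 57, 38, 49, 64, 51, 46, 71, 48, 37, 73, 74, 58, 75, 44, 55, 78, 42, 72, 76, 69, 47, 81, 82, 83, 84, 63, 80, 50, 61, 53, 54, 56, 62, 79, 59, 77, 70, 65, 66, 67, 68],
  [0, 3, 6, 1, 8, 11, 2, 13, 4, 15, 17, 5, 19, 7, 14, 9, 21, 10, 20, 12, 18, 16, 27, 23, 24, 28, 32, 22, 25, 29, 33, 37, 26, 30, 44, 48, 50, 31, 53, 52, 57, 61, 46, 65, 34, 66, 42, 68, 35, 69, 36, 72, 39, 38, 62, 59, 76, 40, 77, 55, 63, 41, 54, 60, 67, 43, 45, 64, 47, 49, 80, 81, 51, 82, 75, 74, 56, 58, 79, 78, 70, 71, 73, 84, 83],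
  [0, 4, 7, 8, 1, 12, 13, 2, 3, 16, 18, 19, 5, 6, 14, 21, 9, 20, 10, 11, 17, 15, 25, 23, 24, 22, 30, 28, 27, 29, 26, 38, 33, 32, 45, 42, 51, 53, 31, 55, 58, 62, 35, 49, 66, 34, 48, 64, 46, 43, 72, 36, 59, 37, 61, 39, 63, 77, 40, 52, 76, 54, 41, 56, 47, 69, 44, 68, 67, 65, 83, 74, 50, 78, 71, 81, 60, 57, 73, 82, 84, 75, 79, 70, 80],
  [84, 67, 46, 47, 4, 51, 35, 7, 8, 9, 38, 69, 60, 13, 14, 15, 71, 66, 77, 61, 55, 75, 54, 73, 78, 65, 39, 36, 76, 80, 44, 52, 31, 57, 33, 42, 62, 26, 45, 37, 30, 12, 6, 28, 40, 10, 48, 64, 2, 5, 22, 49, 32, 17, 50, 58, 25, 34, 20, 18, 41, 63, 27, 19, 3, 56, 53, 68, 1, 72, 29, 74, 11, 82, 16, 81, 43, 59, 79, 24, 70, 21, 23, 0, 83],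
  [83, 68, 48, 64, 4, 49, 42, 7, 8, 9, 45, 72, 41, 13, 14, 15, 74, 53, 59, 63, 58, 81, 50, 82, 79, 56, 37, 62, 43, 70, 40, 32, 52, 34, 57, 6, 27, 39, 10, 26, 44, 60, 35, 76, 30, 38, 2, 3, 46, 51, 54, 5, 31, 66, 22, 20, 65, 33, 55, 77, 12, 19, 36, 61, 47, 25, 17, 1, 67, 11, 80, 16, 69, 23, 71, 21, 28, 18, 24, 78, 29, 75, 73, 84, 0]]

set_option maxRecDepth 1000000 in
/-- their inverses -/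
def PiL : List (List ℕ) := [
  [0, 1, 2, 3, 4, 5, 6, 7, 8, 15, 10, 11, 12, 13, 14, 9, 21, 17, 18, 19, 20, 16, 25, 23, 24, 22, 30, 28, 27, 29, 26, 34, 33, 32, 31, 42, 43, 44, 45, 40, 39, 60, 35, 36, 37, 38, 48, 64, 46, 51, 65, 49, 57, 66, 56, 58, 54, 52, 55, 77, 41, 63, 76, 61, 47, 50, 53, 68, 67, 72, 80, 81, 69, 82, 75, 74, 62, 59, 79, 78, 70, 71, 73, 84, 83],
  [0, 2, 1, 6, 7, 10, 3, 4, 13, 9, 5, 17, 18, 8, 14, 15, 16, 11, 12, 20, 19, 21, 26, 23, 24, 30, 22, 32, 33, 29, 25, 36, 27, 28, 43, 47, 31, 50, 51, 54, 56, 59, 64, 34, 65, 49, 67, 35, 68, 45, 37, 38, 62, 72, 39, 61, 40, 76, 63, 41, 77, 55, 52, 58, 42, 44, 69, 46, 48, 66, 70, 71, 53, 73, 74, 75, 57, 60, 78, 79, 80, 81, 82, 83, 84],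
  [1, 0, 5, 3, 4, 2, 12, 13, 14, 15, 10, 19, 6, 7, 8, 9, 22, 23, 24, 11, 20, 25, 16, 17, 18, 21, 31, 28, 27, 29, 34, 26, 39, 40, 30, 41, 43, 52, 45, 32, 33, 35, 60, 36, 57, 38, 49, 64, 51, 46, 71, 48, 37, 73, 74, 58, 75, 44, 55, 78, 42, 72, 76, 69, 47, 81, 82, 83, 84, 63, 80, 50, 61, 53, 54, 56, 62, 79, 59, 77, 70, 65, 66, 67, 68],
  [0, 3, 6, 1, 8, 11, 2, 13, 4, 15, 17, 5, 19, 7, 14, 9, 21, 10, 20, 12, 18, 16, 27, 23, 24, 28, 32, 22, 25, 29, 33, 37, 26, 30, 44, 48, 50, 31, 53, 52, 57, 61, 46, 65, 34, 66, 42, 68, 35, 69, 36, 72, 39, 38, 62, 59, 76, 40, 77, 55, 63, 41, 54, 60, 67, 43, 45, 64, 47, 49, 80, 81, 51, 82, 75, 74, 56, 58, 79, 78, 70, 71, 73, 84, 83],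
  [0, 4, 7, 8, 1, 12, 13, 2, 3, 16, 18, 19, 5, 6, 14, 21, 9, 20, 10, 11, 17, 15, 25, 23, 24, 22, 30, 28, 27, 29, 26, 38, 33, 32, 45, 42, 51, 53, 31, 55, 58, 62, 35, 49, 66, 34, 48, 64, 46, 43, 72, 36, 59, 37, 61, 39, 63, 77, 40, 52, 76, 54, 41, 56, 47, 69, 44, 68, 67, 65, 83, 74, 50, 78, 71, 81, 60, 57, 73, 82, 84, 75, 79, 70, 80],
  [83, 68, 48, 64, 4, 49, 42, 7, 8, 9, 45, 72, 41, 13, 14, 15, 74, 53, 59, 63, 58, 81, 50, 82, 79, 56, 37, 62, 43, 70, 40, 32, 52, 34, 57, 6, 27, 39, 10, 26, 44, 60, 35, 76, 30, 38, 2, 3, 46, 51, 54, 5, 31, 66, 22, 20, 65, 33, 55, 77, 12, 19, 36, 61, 47, 25, 17, 1, 67, 11, 80, 16, 69, 23, 71, 21, 28, 18, 24, 78, 29, 75, 73, 84, 0],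
  [84, 67, 46, 47, 4, 51, 35, 7, 8, 9, 38, 69, 60, 13, 14, 15, 71, 66, 77, 61, 55, 75, 54, 73, 78, 65, 39, 36, 76, 80, 44, 52, 31, 57, 33, 42, 62, 26, 45, 37, 30, 12, 6, 28, 40, 10, 48, 64, 2, 5, 22, 49, 32, 17, 50, 58, 25, 34, 20, 18, 41, 63, 27, 19, 3, 56, 53, 68, 1, 72, 29, 74, 11, 82, 16, 81, 43, 59, 79, 24, 70, 21, 23, 0, 83]]

/-- the permutation of the blocks induced by `(ab)^2` -/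
def PtTL : List ℕ := [0, 1, 6, 3, 4, 12, 2, 13, 8, 15, 20, 19, 5, 7, 14, 9, 21, 18, 17, 11, 10, 16, 25, 24, 23, 22, 32, 28, 27, 29, 33, 39, 26, 30, 40, 46, 76, 52, 55, 31, 34, 49, 48, 62, 57, 58, 35, 47, 42, 41, 56, 60, 37, 59, 65, 38, 50, 44, 45, 53, 51, 69, 43, 72, 64, 54, 77, 67, 68, 61, 70, 75, 63, 78, 81, 71, 36, 66, 73, 82, 80, 74, 79, 83, 84]

/-- its inverse -/
def PiTL : List ℕ := [0, 1, 6, 3, 4, 12, 2, 13, 8, 15, 20, 19, 5, 7, 14, 9, 21, 18, 17, 11, 10, 16, 25, 24, 23, 22, 32, 28, 27, 29, 33, 39, 26, 30, 40, 46, 76, 52, 55, 31, 34, 49, 48, 62, 57, 58, 35, 47, 42, 41, 56, 60, 37, 59, 65, 38, 50, 44, 45, 53, 51, 69, 43, 72, 64, 54, 77, 67, 68, 61, 70, 75, 63, 78, 81, 71, 36, 66, 73, 82, 80, 74, 79, 83, 84]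

set_option maxRecDepth 1000000 in
/-- coordinates of the 85 blocks as points of the projective space -/
def vecL : List (List ℕ) := [
  [1, 0, 0, 0],
  [1, 2, 2, 2],
  [1, 0, 2, 2],
  [1, 3, 2, 2],
  [0, 1, 1, 1],
  [1, 1, 3, 3],
  [1, 1, 2, 2],
  [0, 0, 1, 1],
  [0, 1, 3, 3],
  [0, 0, 1, 0],
  [1, 2, 3, 3],
  [1, 3, 3, 3],
  [1, 2, 1, 1],
  [0, 1, 2, 2],
  [0, 1, 0, 0],
  [1, 1, 2, 0],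
  [0, 1, 2, 0],
  [1, 0, 3, 3],
  [1, 3, 1, 1],
  [1, 1, 1, 1],
  [1, 0, 1, 1],
  [1, 0, 2, 0],
  [1, 2, 0, 2],
  [1, 3, 0, 0],
  [1, 2, 0, 0],
  [0, 1, 0, 3],
  [1, 0, 0, 2],
  [0, 1, 0, 1],
  [1, 3, 0, 2],
  [1, 1, 0, 0],
  [0, 1, 0, 2],
  [0, 0, 1, 3],
  [0, 0, 0, 1],
  [1, 1, 0, 2],
  [1, 1, 1, 3],
  [1, 1, 0, 1],
  [0, 1, 2, 1],
  [1, 3, 1, 3],
  [1, 3, 3, 2],
  [1, 2, 3, 1],
  [0, 1, 1, 2],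
  [1, 0, 1, 2],
  [1, 1, 0, 3],
  [1, 2, 1, 3],
  [0, 1, 3, 2],
  [1, 0, 2, 1],
  [1, 2, 0, 1],
  [1, 0, 0, 1],
  [1, 3, 0, 3],
  [1, 1, 2, 1],
  [1, 0, 1, 3],
  [1, 1, 3, 2],
  [0, 0, 1, 2],
  [1, 3, 2, 1],
  [1, 3, 3, 1],
  [1, 2, 2, 3],
  [0, 1, 2, 3],
  [1, 1, 3, 1],
  [1, 3, 1, 2],
  [1, 2, 1, 2],
  [1, 3, 2, 3],
  [1, 1, 2, 3],
  [0, 1, 3, 1],
  [1, 1, 1, 2],
  [1, 2, 0, 3],
  [0, 1, 1, 3],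
  [1, 2, 3, 2],
  [1, 3, 0, 1],
  [1, 0, 0, 3],
  [1, 0, 3, 2],
  [1, 1, 3, 0],
  [0, 1, 1, 0],
  [1, 2, 2, 1],
  [1, 0, 1, 0],
  [0, 1, 3, 0],
  [1, 2, 2, 0],
  [1, 0, 3, 1],
  [1, 0, 2, 3],
  [1, 3, 1, 0],
  [1, 0, 3, 0],
  [1, 1, 1, 0],
  [1, 3, 2, 0],
  [1, 2, 3, 0],
  [1, 3, 3, 0],
  [1, 2, 1, 0]]

set_option maxRecDepth 1000000 in
/-- symplectic matrices (rows) inducing the same permutations -/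
def matL : List (List ℕ) := [
  [1, 0, 3, 3, 0, 1, 3, 3, 0, 0, 1, 0, 0, 0, 0, 1],
  [1, 0, 0, 0, 0, 1, 0, 1, 0, 0, 1, 0, 0, 0, 0, 1],
  [1, 0, 3, 3, 2, 3, 3, 1, 2, 2, 1, 2, 2, 2, 0, 3],
  [1, 0, 3, 3, 0, 1, 3, 0, 0, 0, 1, 0, 0, 0, 0, 1],
  [1, 0, 0, 3, 0, 1, 3, 3, 0, 0, 1, 0, 0, 0, 0, 1],
  [2, 0, 0, 0, 3, 1, 0, 0, 2, 0, 3, 2, 0, 0, 0, 1],
  [3, 0, 0, 0, 2, 1, 0, 0, 2, 0, 2, 3, 0, 0, 0, 1]]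

set_option maxRecDepth 1000000 in
/-- words (in the macro generators) taking the block 0 to each block -/
def wordsA : List (List ℕ) := [
  [],
  [2],
  [1, 2],
  [3, 2],
  [4, 2],
  [2, 1, 2],
  [3, 1, 2],
  [4, 1, 2],
  [4, 3, 2],
  [4, 6, 2, 4, 6, 3, 2, 1, 2],
  [1, 2, 1, 2],
  [3, 2, 1, 2],
  [4, 2, 1, 2],
  [4, 3, 1, 2],
  [2, 4, 3, 2],
  [4, 5, 2, 4, 5, 3, 2, 1, 2],
  [6, 2, 4, 6, 3, 2, 1, 2],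
  [3, 1, 2, 1, 2],
  [4, 1, 2, 1, 2],
  [2, 3, 2, 1, 2],
  [4, 3, 1, 2, 1, 2],
  [5, 2, 4, 5, 3, 2, 1, 2],
  [5, 4, 6, 3, 2, 1, 2],
  [2, 3, 1, 2, 1, 2],
  [2, 4, 1, 2, 1, 2],
  [6, 4, 5, 3, 2, 1, 2],
  [2, 4, 5, 1, 2, 1, 2],
  [6, 4, 5, 2, 1, 2],
  [5, 4, 6, 2, 1, 2],
  [6, 4, 5],
  [2, 4, 6, 1, 2, 1, 2],
  [4, 5, 1, 2, 1, 2],
  [6, 4, 5, 1, 2, 1, 2],
  [5, 4, 6, 1, 2, 1, 2],
  [4, 6, 1, 2, 1, 2],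
  [5, 3, 1, 2],
  [4, 5, 2, 1, 2],
  [4, 6, 3, 1, 2, 1, 2],
  [5, 1, 2, 1, 2],
  [4, 5, 4, 3, 1, 2, 1, 2],
  [4, 6, 4, 3, 1, 2, 1, 2],
  [6, 4, 2, 1, 2],
  [6, 3, 1, 2],
  [4, 6, 2, 1, 2],
  [4, 5, 3, 1, 2, 1, 2],
  [6, 1, 2, 1, 2],
  [5, 1, 2],
  [5, 3, 2],
  [6, 1, 2],
  [6, 2, 1, 2],
  [4, 6, 3, 2, 1, 2],
  [5, 2, 1, 2],
  [4, 6, 4, 1, 2, 1, 2],
  [6, 3, 1, 2, 1, 2],
  [4, 5, 2, 3, 2, 1, 2],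
  [5, 4, 3, 1, 2, 1, 2],
  [4, 6, 2, 3, 2, 1, 2],
  [4, 5, 4, 1, 2, 1, 2],
  [6, 4, 3, 1, 2, 1, 2],
  [6, 4, 1, 2, 1, 2],
  [5, 4, 2, 1, 2],
  [5, 2, 3, 2, 1, 2],
  [4, 6, 4, 2, 1, 2],
  [6, 2, 3, 2, 1, 2],
  [6, 3, 2],
  [4, 5, 3, 2, 1, 2],
  [5, 3, 1, 2, 1, 2],
  [5, 2],
  [6, 2],
  [5, 3, 2, 1, 2],
  [4, 6],
  [2, 4, 6, 3, 2, 1, 2],
  [6, 3, 2, 1, 2],
  [5, 2, 3, 1, 2, 1, 2],
  [2, 4, 5, 2, 3, 2, 1, 2],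
  [2, 4, 6, 2, 3, 2, 1, 2],
  [4, 5, 4, 2, 1, 2],
  [5, 4, 1, 2, 1, 2],
  [5, 2, 4, 1, 2, 1, 2],
  [6, 2, 4, 1, 2, 1, 2],
  [4, 5],
  [2, 4, 5, 3, 2, 1, 2],
  [6, 2, 3, 1, 2, 1, 2],
  [6],
  [5]]

/-- the 64 blocks in the orbit of the block 1 under the stabilizer of the block 0 -/
def ptsB : List ℕ := [1, 2, 3, 4, 5, 6, 7, 8, 9, 10, 11, 12, 13, 15, 16, 17, 18, 19, 20, 21, 31, 34, 36, 37, 38, 39, 40, 41, 43, 44, 45, 49, 50, 51, 52, 53, 54, 55, 56, 57, 58, 59, 60, 61, 62, 63, 65, 66, 69, 70, 71, 72, 73, 74, 75, 76, 77, 78, 79, 80, 81, 82, 83, 84]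

set_option maxRecDepth 1000000 in
/-- words fixing the block 0 and taking the block 1 to each of them -/
def wordsB : List (List ℕ) := [
  [],
  [],
  [1],
  [3],
  [4],
  [2, 4, 3, 2, 1, 2, 4, 2, 3, 2],
  [3, 1],
  [4, 1],
  [4, 3],
  [5, 2, 4, 5, 3, 2, 4, 6, 3, 2, 1],
  [2, 4, 1, 2, 3, 1, 2, 4, 2],
  [2, 4, 3, 2, 1, 2, 4, 3, 2],
  [1, 2, 3, 1, 2, 4, 2, 1, 2, 1],
  [4, 3, 1],
  [],
  [6, 2, 4, 6, 3, 2, 4, 5, 3, 2, 1],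
  [6, 4, 5, 2, 4, 5, 3, 2, 4, 6, 1],
  [2, 1, 2, 4, 2, 1, 2, 3, 2, 1],
  [2, 3, 1, 2, 4, 2, 1, 2, 1],
  [2, 1, 2, 4, 2, 3, 1, 2, 1],
  [2, 4, 3, 1, 2, 1, 2, 4, 2],
  [5, 4, 6, 2, 4, 6, 3, 2, 4, 5, 1],
  [],
  [],
  [],
  [],
  [],
  [],
  [],
  [],
  [],
  [1, 2, 4, 6, 4, 2, 3, 1],
  [],
  [],
  [1, 2, 4, 5, 4, 2, 3, 1],
  [],
  [2, 4, 6, 4, 2, 3, 1],
  [3, 1, 2, 4, 6, 4, 2, 3, 1],
  [1, 2, 4, 5, 2, 4, 2, 3, 1],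
  [3, 1, 2, 4, 5, 4, 2, 1],
  [3, 1, 2, 4, 6, 4, 2, 1],
  [2, 4, 6, 2, 4, 2, 1],
  [],
  [2, 4, 5, 4, 2, 3, 1],
  [3, 1, 2, 4, 5, 4, 2, 3, 1],
  [1, 2, 4, 6, 2, 4, 2, 3, 1],
  [],
  [],
  [],
  [2, 4, 6, 2, 4, 2, 3, 1],
  [3, 2, 4, 6, 4, 2, 3, 1],
  [2, 4, 5, 2, 4, 2, 3, 1],
  [1, 2, 4, 5, 4, 2, 1],
  [2, 4, 5, 3, 1, 2, 4, 1, 2, 1],
  [3, 2, 4, 5, 4, 2, 1],
  [3, 1, 2, 4, 6, 2, 4, 2, 1],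
  [3, 2, 4, 6, 4, 2, 1],
  [1, 2, 4, 6, 4, 2, 1],
  [3, 1, 2, 4, 5, 2, 4, 2, 1],
  [1, 2, 4, 6, 2, 4, 2, 1],
  [2, 4, 5, 2, 4, 2, 1],
  [3, 2, 4, 6, 2, 4, 2, 1],
  [2, 4, 5, 4, 2, 1],
  [3, 2, 4, 5, 2, 4, 2, 1],
  [],
  [3, 2, 4, 5, 4, 2, 3, 1],
  [2, 4, 6, 3, 1, 2, 4, 1, 2, 1],
  [],
  [],
  [3, 2, 4, 6, 2, 4, 2, 3, 1],
  [2, 4, 5, 4, 2],
  [2, 4, 6, 3, 2, 1, 2, 4, 3, 2],
  [3, 2, 4, 5, 2, 4, 2, 3, 1],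
  [6, 4, 2, 1, 2, 4, 5, 3, 1],
  [2, 4, 5, 1, 2, 4, 3, 1, 2, 1],
  [2, 4, 6, 1, 2, 4, 3, 1, 2, 1],
  [2, 4, 6, 4, 2, 1],
  [1, 2, 4, 5, 2, 4, 2, 1],
  [6, 4, 2, 3, 1, 2, 4, 6, 1],
  [5, 4, 2, 3, 1, 2, 4, 5, 1],
  [2, 4, 6, 4, 2],
  [2, 4, 5, 3, 2, 1, 2, 4, 3, 2],
  [5, 4, 2, 1, 2, 4, 6, 3, 1],
  [2, 4, 6, 2, 4, 2],
  [2, 4, 5, 2, 4, 2]]

/-- the 45 blocks in the orbit of the block 3 under the stabilizer of the blocks 0, 1 -/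
def ptsC : List ℕ := [2, 3, 5, 6, 7, 9, 10, 12, 13, 15, 20, 36, 37, 38, 43, 44, 45, 50, 52, 53, 54, 55, 56, 57, 58, 59, 61, 62, 63, 65, 66, 69, 70, 71, 72, 73, 74, 75, 76, 77, 78, 79, 80, 81, 82]

set_option maxRecDepth 1000000 in
/-- words fixing the blocks 0, 1 and taking the block 3 to each of them -/
def wordsC : List (List ℕ) := [
  [],
  [],
  [6, 3, 2, 1, 2, 4, 6, 2, 3, 1, 2, 4, 6, 2, 1, 2, 4, 5, 1, 2, 4],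
  [],
  [],
  [6, 1, 2, 4, 6, 2, 3, 1, 2, 4, 6, 2, 1, 2, 4, 5, 1, 2, 4, 3, 1, 2],
  [4, 6, 2, 4, 6, 1, 2, 1, 2, 4, 5, 2, 3, 1, 2, 4, 5, 2, 1, 2, 3],
  [2, 4, 1, 2, 3, 1, 2, 4, 2, 1],
  [],
  [6, 3, 2, 4, 5, 2, 4, 3, 2, 1, 2, 4, 5],
  [6, 4, 2, 3, 1, 2, 4, 5, 4, 2, 1, 2, 4, 5],
  [],
  [2, 4, 5, 3, 1, 2, 4, 6, 1, 2, 1, 2, 4, 5, 2, 3, 1, 2, 4, 5, 2, 1],
  [4, 1, 2, 3, 1, 2, 4, 2, 1, 2],
  [],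
  [5, 3, 2, 4, 6, 2, 4, 3, 2, 1, 2, 4, 6],
  [],
  [],
  [],
  [],
  [6, 4, 2, 1, 2, 4, 6, 4, 2, 3, 1, 2, 4, 5],
  [],
  [],
  [],
  [],
  [],
  [],
  [],
  [],
  [],
  [],
  [],
  [],
  [],
  [],
  [],
  [6, 4, 2, 1, 2, 4, 5],
  [3, 1, 2, 4, 1, 2, 1, 2, 4, 5, 1, 2, 4, 2, 3, 2],
  [6, 4, 2, 3, 1, 2, 4, 5, 4, 2, 3, 1, 2, 4, 6],
  [],
  [],
  [],
  [],
  [5, 4, 2, 1, 2, 4, 6],
  [3, 1, 2, 4, 1, 2, 1, 2, 4, 6, 1, 2, 4, 2, 3, 2],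
  [5, 4, 2, 3, 1, 2, 4, 6, 4, 2, 3, 1, 2, 4, 5],
  [],
  [],
  [],
  [],
  [1, 2, 4, 6, 4, 2, 1, 2, 4, 6, 3, 1, 2, 1, 2, 4, 2],
  [],
  [2, 3, 1, 2, 4, 1, 2, 1, 2, 4, 5, 1, 2, 4, 2, 3],
  [4, 5, 2, 1, 2, 4, 3, 1, 2, 1, 2, 4, 6, 4, 2, 1, 2],
  [2, 1, 2, 4, 5, 2, 3, 1, 2, 4, 1, 2, 1, 2, 4, 5, 4],
  [6, 4, 2, 1, 2, 4, 6, 4, 2, 1, 2, 4, 6],
  [2, 1, 2, 4, 6, 2, 3, 1, 2, 4, 1, 2, 1, 2, 4, 6, 4],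
  [2, 3, 1, 2, 4, 1, 2, 1, 2, 4, 6, 1, 2, 4, 2, 3],
  [5, 4, 2, 1, 2, 4, 5, 4, 2, 1, 2, 4, 5],
  [6, 4, 2, 1, 2, 4, 5, 2, 4, 1, 2, 3, 1, 2, 4, 2, 1],
  [],
  [3, 2, 4, 6, 3, 1, 2, 4, 1, 2, 3],
  [5, 4, 2, 3, 1, 2, 4, 5],
  [3, 2, 4, 5, 3, 1, 2, 4, 1, 2, 3],
  [],
  [1, 2, 4, 5, 4, 2, 1, 2, 4, 5, 3, 1, 2, 1, 2, 4, 2],
  [4, 6, 2, 1, 2, 4, 3, 1, 2, 1, 2, 4, 5, 4, 2, 1, 2],
  [],
  [],
  [3, 2, 4, 6, 1, 2, 4, 1, 2, 3, 2],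
  [3, 2, 4, 6, 4, 2, 3],
  [2, 1, 2, 4, 6, 4, 2, 1, 2, 4, 6, 3, 1, 2, 1, 2, 4],
  [3, 2, 4, 5, 1, 2, 4, 1, 2, 3, 2],
  [2, 4, 5, 2, 1, 2, 4, 3, 1, 2, 1, 2, 4, 6, 4, 2, 1],
  [1, 2, 4, 5, 2, 3, 1, 2, 4, 1, 2, 1, 2, 4, 5, 4, 2],
  [1, 2, 4, 6, 2, 3, 1, 2, 4, 1, 2, 1, 2, 4, 6, 4, 2],
  [6, 4, 2, 3, 1, 2, 4, 6],
  [5, 4, 2, 1, 2, 4, 6, 2, 4, 1, 2, 3, 1, 2, 4, 2, 1],
  [5, 4, 2, 1, 2, 4, 6, 4, 1, 2, 3, 1, 2, 4, 2, 1, 2],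
  [6, 4, 2, 1, 2, 4, 5, 4, 1, 2, 3, 1, 2, 4, 2, 1, 2],
  [3, 2, 4, 5, 4, 2, 3],
  [2, 1, 2, 4, 5, 4, 2, 1, 2, 4, 5, 3, 1, 2, 1, 2, 4],
  [2, 4, 6, 2, 1, 2, 4, 3, 1, 2, 1, 2, 4, 5, 4, 2, 1],
  [],
  []]

/-- the 4 blocks in the orbit of the block 47 under the stabilizer of the blocks 0, 1, 3 -/
def ptsD : List ℕ := [27, 28, 47, 64]

set_option maxRecDepth 1000000 in
/-- words fixing the blocks 0, 1, 3 and taking the block 47 to each of them -/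
def wordsD : List (List ℕ) := [
  [],
  [],
  [],
  [],
  [],
  [],
  [],
  [],
  [],
  [],
  [],
  [],
  [],
  [],
  [],
  [],
  [],
  [],
  [],
  [],
  [],
  [],
  [],
  [],
  [],
  [],
  [],
  [4, 2, 1, 2, 4, 1, 2, 1, 2, 4, 1, 2, 1, 2, 1],
  [4, 2, 1, 2, 4, 2, 1, 2, 1, 2, 4, 2, 1, 2, 1],
  [],
  [],
  [],
  [],
  [],
  [],
  [],
  [],
  [],
  [],
  [],
  [],
  [],
  [],
  [],
  [],
  [],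
  [],
  [],
  [],
  [],
  [],
  [],
  [],
  [],
  [],
  [],
  [],
  [],
  [],
  [],
  [],
  [],
  [],
  [],
  [0],
  [],
  [],
  [],
  [],
  [],
  [],
  [],
  [],
  [],
  [],
  [],
  [],
  [],
  [],
  [],
  [],
  [],
  [],
  [],
  []]

/-- a block moved by `(ab)^2` -/
def jMoved : ℕ := 2

end Cfsg.Agent.Lib.Helper92.He.S44
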