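import Cfsg.Agent.Lib.Helper92.He.Order
import Cfsg.Agent.Lib.Helper92.He.S44Data
import Cfsg.Agent.Lib.Helper92.BlockAct

/-!
# The subgroup `⟨a, c, d, e, f, (bcde)^7⟩` of the presented Held group acting on 85 blocks (helper92)
-/

set_option autoImplicit false

namespace Cfsg.Agent.Lib.Helper92.He.S44
open Cfsg.Agent.Lib.Helper92.VecPerm
open Cfsg.Agent.Lib.Helper92.BlockAct
open Cfsg.Agent.Lib.Helper92.SimpleAux
open Cfsg.Agent.Lib.Helper92.He
open Cfsg.Spor Cfsg.Spor.He
open Pointwise

/-- table lookup -/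
def nth : List ℕ → ℕ → ℕ
  | [], _ => 0
  | a :: _, 0 => a
  | _ :: l, n + 1 => nth l n

/-- table lookup -/
def nthL : List (List ℕ) → ℕ → List ℕ
  | [], _ => []
  | a :: _, 0 => a
  | _ :: l, n + 1 => nthL l n

/-- the macro generators as words -/
def MG (m : ℕ) : List ℕ := nthL MGL m

/-- the permutation of the blocks induced by a macro generator -/
def Pt (m j : ℕ) : ℕ := nth (nthL PtL m) j
/-- its inverse -/
def Pi (m j : ℕ) : ℕ := nth (nthL PiL m) j

/-- the permutation of the blocks induced by `(ab)^2` -/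
def PtT (j : ℕ) : ℕ := nth PtTL j
/-- its inverse -/
def PiT (j : ℕ) : ℕ := nth PiTL j

/-- the word `(ab)^2` -/
def Tw : List ℕ := [0, 6, 0, 6]

/-- the mask of a list of points -/
noncomputable def maskOf (l : List ℕ) : ℕ :=
  @List.rec ℕ (fun _ => ℕ) 0 (fun p _ ih => Nat.lor (Nat.pow 2 p) ih) l

/-- the mask of a block -/
noncomputable def mask (j : ℕ) : ℕ := maskOf (nthL blkPts j)

/-- a point of a block -/
def wit (j : ℕ) : ℕ := nth (nthL blkPts j) 0

set_option maxRecDepth 100000 in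
theorem chk_blocks : (List.range 7).all (fun m => (List.range 85).all (fun j =>
    Nat.beq (wordV nets (MG m).reverse (mask j)) (mask (Pt m j)) &&
    (Nat.beq (wordV nets (MG m) (mask j)) (mask (Pi m j)) &&
    (Nat.blt (Pt m j) 85 && Nat.blt (Pi m j) 85)))) = true := by decide +kernel

set_option maxRecDepth 100000 in
theorem chk_T : (List.range 85).all (fun j =>
    Nat.beq (wordV nets Tw.reverse (mask j)) (mask (PtT j)) &&
    (Nat.beq (wordV nets Tw (mask j)) (mask (PiT j)) &&
    (Nat.blt (PtT j) 85 && Nat.blt (PiT j) 85))) = true := by decide +kernel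

theorem chk_Tfix : PtT 0 = 0 ∧ PtT 1 = 1 ∧ PtT 3 = 3 ∧ PtT 47 = 47 ∧ PtT jMoved ≠ jMoved ∧ jMoved < 85 := by
  decide

set_option maxRecDepth 100000 in
theorem chk_wit : (List.range 85).all (fun i => (List.range 85).all (fun j =>
    ((mask i).testBit (wit j) == Nat.beq i j)) && Nat.blt (wit i) 2058) = true := by decide +kernel

theorem MG_lt : ∀ m < 7, ∀ x ∈ MG m, x < 7 := by decide

/-- the blocks as sets, indexed by numbers -/
def Bn (j : ℕ) : Set (Fin 2058) := {i | (mask j).testBit i.val = true}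

/-- the 85 blocks -/
def B (j : Fin 85) : Set (Fin 2058) := Bn j.val

theorem mem_Bn (j : ℕ) (i : Fin 2058) : i ∈ Bn j ↔ (mask j).testBit i.val = true := Iff.rfl

theorem B_injective : Function.Injective B := by
  intro i j hij
  have h := chk_wit
  rw [List.all_eq_true] at h
  have hj := h j.val (List.mem_range.mpr j.isLt)
  rw [Bool.and_eq_true, List.all_eq_true] at hj
  have hwlt : wit j.val < 2058 := by
    have := hj.2
    simpa [Nat.blt] using this
  have hjj := hj.1 j.val (List.mem_range.mpr j.isLt)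
  have hmem : (⟨wit j.val, hwlt⟩ : Fin 2058) ∈ B j := by
    show (mask j.val).testBit (wit j.val) = true
    have e : Nat.beq j.val j.val = true := by simp
    rw [e] at hjj
    simpa using hjj
  rw [← hij] at hmem
  have hmem' : (mask i.val).testBit (wit j.val) = true := hmem
  have hi := h i.val (List.mem_range.mpr i.isLt)
  rw [Bool.and_eq_true, List.all_eq_true] at hi
  have hij2 := hi.1 j.val (List.mem_range.mpr j.isLt)
  rw [hmem'] at hij2
  have : Nat.beq i.val j.val = true := by simpa using hij2.symm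
  exact Fin.ext (Nat.eq_of_beq_eq_true this)

theorem lv_inv (x : ℕ) (hx : x < 7) : (lv x)⁻¹ = lv x := by
  interval_cases x
  · exact og_inv _ nodeA
  · exact og_inv _ nodeD
  · exact og_inv _ nodeE
  · exact og_inv _ nodeF
  · exact og_inv _ nodeG
  · exact og_inv _ nodeC
  · exact og_inv _ nodeB

theorem evW_cons (x : ℕ) (w : List ℕ) : evW (x :: w) = lv x * evW w := by simp [evW]

theorem evW_append (u w : List ℕ) : evW (u ++ w) = evW u * evW w := by simp [evW]

theorem evW_reverse (w : List ℕ) (hw : ∀ x ∈ w, x < 7) : evW w.reverse = (evW w)⁻¹ := by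
  induction w with
  | nil => simp [evW]
  | cons x w ih =>
    have e1 : evW (x :: w).reverse = evW w.reverse * lv x := by
      rw [List.reverse_cons, evW_append]
      simp [evW]
    rw [e1, ih (fun y hy => hw y (List.mem_cons_of_mem _ hy)), evW_cons x w, mul_inv_rev,
      lv_inv x (hw x List.mem_cons_self)]

/-- a mask computation gives the image of a block -/
theorem smul_Bn_of_check (w : List ℕ) (hw : ∀ x ∈ w, x < 7) (j k : ℕ)
    (h : Nat.beq (wordV nets w (mask j)) (mask k) = true) : (evW w)⁻¹ • Bn j = Bn k := by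
  ext i
  rw [Set.mem_inv_smul_set_iff, mem_Bn, mem_Bn, smul_val, phi_evW w hw, wordPerm_apply,
    ← wordV_testBit netsOK, Nat.eq_of_beq_eq_true h]

/-- both directions for a word -/
theorem word_smul (w : List ℕ) (hw : ∀ x ∈ w, x < 7) (j k l : ℕ)
    (h1 : Nat.beq (wordV nets w.reverse (mask j)) (mask k) = true)
    (h2 : Nat.beq (wordV nets w (mask j)) (mask l) = true) :
    evW w • Bn j = Bn k ∧ (evW w)⁻¹ • Bn j = Bn l := by
  refine ⟨?_, smul_Bn_of_check w hw j l h2⟩
  have hw' : ∀ x ∈ w.reverse, x < 7 := fun x hx => hw x (List.mem_reverse.mp hx)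
  have := smul_Bn_of_check w.reverse hw' j k h1
  rwa [evW_reverse w hw, inv_inv] at this

/-- the macro generators as group elements -/
noncomputable def gm (m : ℕ) : HG := evW (MG m)

theorem chk_at (m j : ℕ) (hm : m < 7) (hj : j < 85) :
    Nat.beq (wordV nets (MG m).reverse (mask j)) (mask (Pt m j)) = true ∧
    Nat.beq (wordV nets (MG m) (mask j)) (mask (Pi m j)) = true ∧ Pt m j < 85 ∧ Pi m j < 85 := by
  have h := chk_blocks
  rw [List.all_eq_true] at h
  have h1 := h m (List.mem_range.mpr hm)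
  rw [List.all_eq_true] at h1
  have h2 := h1 j (List.mem_range.mpr hj)
  simp only [Bool.and_eq_true] at h2
  obtain ⟨a1, a2, a3, a4⟩ := h2
  refine ⟨a1, a2, ?_, ?_⟩
  · simpa [Nat.blt] using a3
  · simpa [Nat.blt] using a4

theorem gm_smul (m j : ℕ) (hm : m < 7) (hj : j < 85) : gm m • Bn j = Bn (Pt m j) :=
  (word_smul (MG m) (MG_lt m hm) j _ _ (chk_at m j hm hj).1 (chk_at m j hm hj).2.1).1

theorem gm_inv_smul (m j : ℕ) (hm : m < 7) (hj : j < 85) : (gm m)⁻¹ • Bn j = Bn (Pi m j) :=
  (word_smul (MG m) (MG_lt m hm) j _ _ (chk_at m j hm hj).1 (chk_at m j hm hj).2.1).2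

theorem chkT_at (j : ℕ) (hj : j < 85) :
    Nat.beq (wordV nets Tw.reverse (mask j)) (mask (PtT j)) = true ∧
    Nat.beq (wordV nets Tw (mask j)) (mask (PiT j)) = true ∧ PtT j < 85 ∧ PiT j < 85 := by
  have h := chk_T
  rw [List.all_eq_true] at h
  have h2 := h j (List.mem_range.mpr hj)
  simp only [Bool.and_eq_true] at h2
  obtain ⟨a1, a2, a3, a4⟩ := h2
  refine ⟨a1, a2, ?_, ?_⟩
  · simpa [Nat.blt] using a3
  · simpa [Nat.blt] using a4

/-- the element `(ab)^2` -/
noncomputable def tEl : HG := evW Tw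

theorem Tw_lt : ∀ x ∈ Tw, x < 7 := by decide

theorem tEl_smul (j : ℕ) (hj : j < 85) : tEl • Bn j = Bn (PtT j) :=
  (word_smul Tw Tw_lt j _ _ (chkT_at j hj).1 (chkT_at j hj).2.1).1

theorem tEl_inv_smul (j : ℕ) (hj : j < 85) : tEl⁻¹ • Bn j = Bn (PiT j) :=
  (word_smul Tw Tw_lt j _ _ (chkT_at j hj).1 (chkT_at j hj).2.1).2

theorem tEl_mem_stab : tEl ∈ blockStab HG B :=
  ⟨fun j => ⟨⟨PtT j.val, (chkT_at j.val j.isLt).2.2.1⟩, tEl_smul j.val j.isLt⟩,
   fun j => ⟨⟨PiT j.val, (chkT_at j.val j.isLt).2.2.2⟩, tEl_inv_smul j.val j.isLt⟩⟩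

/-- the subgroup generated by the macro generators -/
noncomputable def N0 : Subgroup HG := Subgroup.closure {g | ∃ m, m < 7 ∧ g = gm m}

theorem gm_mem (m : ℕ) (hm : m < 7) : gm m ∈ N0 := Subgroup.subset_closure ⟨m, hm, rfl⟩

theorem N0_le_stab : N0 ≤ blockStab HG B := by
  unfold N0
  rw [Subgroup.closure_le]
  rintro _ ⟨m, hm, rfl⟩
  refine ⟨fun j => ?_, fun j => ?_⟩
  · exact ⟨⟨Pt m j.val, (chk_at m j.val hm j.isLt).2.2.1⟩, gm_smul m j.val hm j.isLt⟩
  · exact ⟨⟨Pi m j.val, (chk_at m j.val hm j.isLt).2.2.2⟩, gm_inv_smul m j.val hm j.isLt⟩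

/-- the action of the block stabilizer on the blocks -/
noncomputable def thetaS : blockStab HG B →* Equiv.Perm (Fin 85) := blockHom HG B B_injective

/-- the action of `N0` on the blocks -/
noncomputable def theta : N0 →* Equiv.Perm (Fin 85) := thetaS.comp (Subgroup.inclusion N0_le_stab)

theorem thetaS_apply (g : blockStab HG B) (j k : Fin 85) (h : (g : HG) • B j = B k) : thetaS g j = k :=
  blockHom_apply HG B B_injective g j k h

theorem theta_apply (g : N0) (j k : Fin 85) (h : (g : HG) • B j = B k) : theta g j = k :=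
  thetaS_apply (Subgroup.inclusion N0_le_stab g) j k h

/-- `g` maps the blocks as the function `f` says -/
def ActsN (g : HG) (f : ℕ → ℕ) : Prop := ∀ j < 85, f j < 85 ∧ g • Bn j = Bn (f j)

theorem actsN_one : ActsN 1 (fun j => j) := fun _ hj => ⟨hj, one_smul _ _⟩

theorem actsN_mul {g h : HG} {f f' : ℕ → ℕ} (hg : ActsN g f) (hh : ActsN h f') :
    ActsN (g * h) (fun j => f (f' j)) := by
  intro j hj
  obtain ⟨h1, h2⟩ := hh j hj
  obtain ⟨h3, h4⟩ := hg (f' j) h1
  exact ⟨h3, by rw [mul_smul, h2, h4]⟩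

theorem actsN_gm (m : ℕ) (hm : m < 7) : ActsN (gm m) (Pt m) :=
  fun j hj => ⟨(chk_at m j hm hj).2.2.1, gm_smul m j hm hj⟩

/-- the action of a word in the macro generators on the blocks -/
def wordAct : List ℕ → ℕ → ℕ
  | m :: u, j => Pt m (wordAct u j)
  | [], j => j

/-- letters below 7 -/
def wordOK : List ℕ → Bool
  | m :: u => Nat.blt m 7 && wordOK u
  | [] => true

/-- value of a word in the macro generators -/
noncomputable def evM : List ℕ → HG
  | m :: u => gm m * evM u
  | [] => 1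

theorem acts_word : ∀ (u : List ℕ), wordOK u = true → evM u ∈ N0 ∧ ActsN (evM u) (wordAct u)
  | [], _ => ⟨N0.one_mem, actsN_one⟩
  | m :: u, h => by
    simp only [wordOK, Bool.and_eq_true] at h
    obtain ⟨hm, hu⟩ := h
    have hm7 : m < 7 := by simpa [Nat.blt] using hm
    obtain ⟨ih1, ih2⟩ := acts_word u hu
    refine ⟨N0.mul_mem (gm_mem m hm7) ih1, ?_⟩
    have key : ActsN (gm m * evM u) (fun j => Pt m (wordAct u j)) :=
      actsN_mul (f := Pt m) (f' := wordAct u) (actsN_gm m hm7) ih2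
    intro j hj
    exact key j hj

/-- the element of `N0` of a word -/
noncomputable def wordEl (u : List ℕ) (h : wordOK u = true) : N0 := ⟨evM u, (acts_word u h).1⟩

theorem theta_wordEl (u : List ℕ) (h : wordOK u = true) (j : Fin 85) :
    (theta (wordEl u h) j).val = wordAct u j.val := by
  obtain ⟨h1, h2⟩ := (acts_word u h).2 j.val j.isLt
  have := theta_apply (wordEl u h) j ⟨wordAct u j.val, h1⟩ h2
  rw [this]

end Cfsg.Agent.Lib.Helper92.He.S44
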