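import Cfsg.Agent.Lib.Helper92.He.S44Blocks
import Cfsg.Agent.Lib.Helper07.SpCardD
import Cfsg.Agent.Lib.Helper36.F4

/-!
# The subgroup `⟨a, c, d, e, f, (ab)^2, (bcde)^7⟩` of the presented Held group has an index-2
subgroup `≅ Sp(4, 4)` (helper92)
-/

set_option autoImplicit false

namespace Cfsg.Agent.Lib.Helper92.He.S44
open Cfsg.Agent.Lib.Helper92.VecPerm
open Cfsg.Agent.Lib.Helper92.BlockAct
open Cfsg.Agent.Lib.Helper92.SimpleAux
open Cfsg.Agent.Lib.Helper92.He
open Cfsg.Agent.Lib.Helper36 (F4)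
open Cfsg.Spor Cfsg.Spor.He
open Matrix

/-! ### the symplectic group over the field with four elements -/

/-- the symplectic group -/
abbrev Sp44 : Type := Matrix.symplecticGroup (Fin 2) F4

/-- the space -/
abbrev V4 : Type := Fin 2 ⊕ Fin 2 → F4

/-- the projective space -/
abbrev PP : Type := Projectivization F4 V4

noncomputable instance actSpV : DistribMulAction Sp44 V4 where
  smul A v := A.1 *ᵥ v
  one_smul v := Matrix.one_mulVec v
  mul_smul A C v := (Matrix.mulVec_mulVec v A.1 C.1).symm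
  smul_zero A := Matrix.mulVec_zero A.1
  smul_add A v w := Matrix.mulVec_add A.1 v w

theorem sp_smul_def (A : Sp44) (v : V4) : A • v = A.1 *ᵥ v := rfl

instance commSpV : SMulCommClass Sp44 F4 V4 where
  smul_comm A c v := by
    show A.1 *ᵥ (c • v) = c • (A.1 *ᵥ v)
    exact Matrix.mulVec_smul A.1 c v

theorem card_Sp44 : Nat.card Sp44 = 979200 := by
  have h := Cfsg.Agent.Lib.Helper07.card_symplecticGroup (F := F4) (q := 4) F4.card_eq 2
  rw [h]
  simp [Finset.prod_range_succ]

/-- elements of the field from numbers -/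
def f4 : ℕ → F4
  | 0 => F4.z | 1 => F4.o | 2 => F4.w | _ => F4.v

/-- coordinates of the blocks -/
def vecF (j : ℕ) : V4 :=
  Sum.elim ![f4 (nth (nthL vecL j) 0), f4 (nth (nthL vecL j) 1)]
    ![f4 (nth (nthL vecL j) 2), f4 (nth (nthL vecL j) 3)]

/-- position of an index -/
def idx : Fin 2 ⊕ Fin 2 → ℕ := Sum.elim (fun i => i.val) (fun i => 2 + i.val)

/-- the matrices -/
def matF (m : ℕ) : Matrix (Fin 2 ⊕ Fin 2) (Fin 2 ⊕ Fin 2) F4 :=
  Matrix.of fun i j => f4 (nth (nthL matL m) (4 * idx i + idx j))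

/-- matrix times vector, written out -/
def mv (M : Matrix (Fin 2 ⊕ Fin 2) (Fin 2 ⊕ Fin 2) F4) (v : V4) : V4 :=
  fun i => M i (Sum.inl 0) * v (Sum.inl 0) + M i (Sum.inl 1) * v (Sum.inl 1) +
    (M i (Sum.inr 0) * v (Sum.inr 0) + M i (Sum.inr 1) * v (Sum.inr 1))

theorem mulVec_eq_mv (M : Matrix (Fin 2 ⊕ Fin 2) (Fin 2 ⊕ Fin 2) F4) (v : V4) : M *ᵥ v = mv M v := by
  ext i
  simp [mv, Matrix.mulVec, dotProduct, Fintype.sum_sum_type, Fin.sum_univ_two]

/-- the form, written out -/
def frm (M : Matrix (Fin 2 ⊕ Fin 2) (Fin 2 ⊕ Fin 2) F4) (i k : Fin 2 ⊕ Fin 2) : F4 :=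
  M i (Sum.inl 0) * M k (Sum.inr 0) + M i (Sum.inl 1) * M k (Sum.inr 1) +
    (M i (Sum.inr 0) * M k (Sum.inl 0) + M i (Sum.inr 1) * M k (Sum.inl 1))

/-- the standard form, written out -/
def jst (i k : Fin 2 ⊕ Fin 2) : F4 :=
  match i, k with
  | Sum.inl a, Sum.inr b => if a = b then F4.o else F4.z
  | Sum.inr a, Sum.inl b => if a = b then F4.o else F4.z
  | _, _ => F4.z

theorem neg_eq_self (x : F4) : -x = x := rfl

theorem J_apply (i k : Fin 2 ⊕ Fin 2) : Matrix.J (Fin 2) F4 i k = jst i k := by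
  rcases i with a | a <;> rcases k with b | b
  · simp [Matrix.J, jst]; rfl
  · by_cases h : a = b
    · subst h; simp [Matrix.J, jst, neg_eq_self]; rfl
    · simp [Matrix.J, jst, h]; rfl
  · by_cases h : a = b
    · subst h; simp [Matrix.J, jst]; rfl
    · simp [Matrix.J, jst, h]; rfl
  · simp [Matrix.J, jst]; rfl

theorem mem_symp_of_frm (M : Matrix (Fin 2 ⊕ Fin 2) (Fin 2 ⊕ Fin 2) F4)
    (h : ∀ i k, frm M i k = jst i k) : M ∈ Matrix.symplecticGroup (Fin 2) F4 := by
  rw [_root_.SymplecticGroup.mem_iff]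
  ext i k
  rw [J_apply, ← h i k]
  simp only [Matrix.mul_apply, Matrix.transpose_apply, Fintype.sum_sum_type, Fin.sum_univ_two, J_apply,
    jst, frm]
  simp only [Fin.isValue, ↓reduceIte]
  have z0 : F4.z = 0 := rfl
  have o1 : F4.o = 1 := rfl
  simp [z0, o1]
  ring

set_option maxRecDepth 100000 in
theorem vecF_ne : ∀ j : Fin 85, vecF j.val ≠ 0 := by decide +kernel

set_option maxRecDepth 100000 in
theorem vecF_inj : ∀ i j : Fin 85, (∃ a : F4, a • vecF j.val = vecF i.val) → i = j := by
  decide +kernel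

set_option maxRecDepth 100000 in
theorem chk_symp : ∀ m : Fin 7, ∀ i k, frm (matF m.val) i k = jst i k := by decide +kernel

set_option maxRecDepth 100000 in
theorem chk_mat : ∀ m : Fin 7, ∀ j : Fin 85,
    ∃ a : F4, a • vecF (Pt m.val j.val) = mv (matF m.val) (vecF j.val) := by
  decide +kernel

/-- the matrices as elements of the symplectic group -/
def slF (m : Fin 7) : Sp44 := ⟨matF m.val, mem_symp_of_frm _ (chk_symp m)⟩

/-- the blocks as points of the projective space -/
def ptF (j : Fin 85) : PP := Projectivization.mk F4 (vecF j.val) (vecF_ne j)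

theorem ptF_injective : Function.Injective ptF := by
  intro i j h
  unfold ptF at h
  rw [Projectivization.mk_eq_mk_iff'] at h
  exact vecF_inj i j h

theorem card_PP : Nat.card PP = 85 := by
  have hc : Nat.card F4 = 4 := by rw [Nat.card_eq_fintype_card]; exact F4.card_eq
  rw [Projectivization.card_of_finrank F4 V4 (n := 4) (by simp), hc]
  simp [Finset.sum_range_succ]

theorem ptF_bijective : Function.Bijective ptF := by
  rw [Nat.bijective_iff_injective_and_card]
  exact ⟨ptF_injective, by rw [card_PP, Nat.card_eq_fintype_card, Fintype.card_fin]⟩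

/-- the 85 blocks are the 85 points -/
noncomputable def eE : Fin 85 ≃ PP := Equiv.ofBijective ptF ptF_bijective

theorem eE_apply (j : Fin 85) : eE j = ptF j := rfl

/-- the action of the symplectic group on the 85 blocks -/
noncomputable def rho : Sp44 →* Equiv.Perm (Fin 85) :=
  (Equiv.permCongrHom eE.symm).toMonoidHom.comp (MulAction.toPermHom Sp44 PP)

theorem slF_smul (m : Fin 7) (j : Fin 85) (hlt : Pt m.val j.val < 85) :
    slF m • ptF j = ptF ⟨Pt m.val j.val, hlt⟩ := by
  unfold ptF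
  rw [Projectivization.smul_mk, Projectivization.mk_eq_mk_iff']
  obtain ⟨a, ha⟩ := chk_mat m j
  refine ⟨a, ?_⟩
  rw [ha, ← mulVec_eq_mv]
  rfl

theorem rho_slF (m : Fin 7) (j : Fin 85) (hlt : Pt m.val j.val < 85) :
    rho (slF m) j = ⟨Pt m.val j.val, hlt⟩ := by
  show eE.symm (slF m • eE j) = _
  rw [Equiv.symm_apply_eq, eE_apply, eE_apply, slF_smul m j hlt]

/-! ### the stabilizer chain on the 85 blocks -/

/-- membership in the lists of blocks -/
def inB (x : ℕ) : Bool := ptsB.contains x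
/-- membership in the lists of blocks -/
def inC (x : ℕ) : Bool := ptsC.contains x
/-- membership in the lists of blocks -/
def inD (x : ℕ) : Bool := ptsD.contains x

set_option maxRecDepth 100000 in
theorem chk_A : (List.range 85).all (fun x =>
    wordOK (nthL wordsA x) && Nat.beq (wordAct (nthL wordsA x) 0) x) = true := by decide +kernel

set_option maxRecDepth 100000 in
theorem chk_B : (List.range 85).all (fun x => !(inB x) ||
    (wordOK (nthL wordsB x) && (Nat.beq (wordAct (nthL wordsB x) 0) 0 &&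
      Nat.beq (wordAct (nthL wordsB x) 1) x))) = true := by decide +kernel

set_option maxRecDepth 100000 in
theorem chk_C : (List.range 85).all (fun x => !(inC x) ||
    (wordOK (nthL wordsC x) && (Nat.beq (wordAct (nthL wordsC x) 0) 0 &&
      (Nat.beq (wordAct (nthL wordsC x) 1) 1 && Nat.beq (wordAct (nthL wordsC x) 3) x)))) = true := by
  decide +kernel

set_option maxRecDepth 100000 in
theorem chk_D : (List.range 85).all (fun x => !(inD x) ||
    (wordOK (nthL wordsD x) && (Nat.beq (wordAct (nthL wordsD x) 0) 0 &&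
      (Nat.beq (wordAct (nthL wordsD x) 1) 1 && (Nat.beq (wordAct (nthL wordsD x) 3) 3 &&
        Nat.beq (wordAct (nthL wordsD x) 47) x))))) = true := by
  decide +kernel

/-- the 64 blocks -/
def Bset : Finset (Fin 85) := Finset.univ.filter (fun i => inB i.val = true)
/-- the 45 blocks -/
def Cset : Finset (Fin 85) := Finset.univ.filter (fun i => inC i.val = true)
/-- the 4 blocks -/
def Dset : Finset (Fin 85) := Finset.univ.filter (fun i => inD i.val = true)

theorem Bset_card : Bset.card = 64 := by decide +kernel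
theorem Cset_card : Cset.card = 45 := by decide +kernel
theorem Dset_card : Dset.card = 4 := by decide +kernel

/-- the image of `N0` in the permutations of the blocks -/
noncomputable def Q : Subgroup (Equiv.Perm (Fin 85)) := theta.range

/-- the element of `Q` of a word -/
noncomputable def wordQ (u : List ℕ) (h : wordOK u = true) : Q := ⟨theta (wordEl u h), ⟨_, rfl⟩⟩

theorem wordQ_smul (u : List ℕ) (h : wordOK u = true) (j : Fin 85) :
    (wordQ u h • j).val = wordAct u j.val :=
  theta_wordEl u h j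

theorem hA (x : Fin 85) : ∃ g : Q, g • (0 : Fin 85) = x := by
  have h := chk_A
  rw [List.all_eq_true] at h
  have hx := h x.val (List.mem_range.mpr x.isLt)
  rw [Bool.and_eq_true] at hx
  refine ⟨wordQ _ hx.1, Fin.ext ?_⟩
  rw [wordQ_smul]
  exact Nat.eq_of_beq_eq_true hx.2

theorem hB (x : Fin 85) (hx : x ∈ Bset) : ∃ g : Q, g • (0 : Fin 85) = 0 ∧ g • (1 : Fin 85) = x := by
  have h := chk_B
  rw [List.all_eq_true] at h
  have hx' := h x.val (List.mem_range.mpr x.isLt)
  have hin : inB x.val = true := by simpa [Bset] using hx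
  rw [hin] at hx'
  simp only [Bool.not_true, Bool.false_or, Bool.and_eq_true] at hx'
  obtain ⟨h1, h2, h3⟩ := hx'
  refine ⟨wordQ _ h1, Fin.ext ?_, Fin.ext ?_⟩
  · rw [wordQ_smul]; exact Nat.eq_of_beq_eq_true h2
  · rw [wordQ_smul]; exact Nat.eq_of_beq_eq_true h3

theorem hC (x : Fin 85) (hx : x ∈ Cset) :
    ∃ g : Q, g • (0 : Fin 85) = 0 ∧ g • (1 : Fin 85) = 1 ∧ g • (3 : Fin 85) = x := by
  have h := chk_C
  rw [List.all_eq_true] at h
  have hx' := h x.val (List.mem_range.mpr x.isLt)
  have hin : inC x.val = true := by simpa [Cset] using hx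
  rw [hin] at hx'
  simp only [Bool.not_true, Bool.false_or, Bool.and_eq_true] at hx'
  obtain ⟨h1, h2, h3, h4⟩ := hx'
  refine ⟨wordQ _ h1, Fin.ext ?_, Fin.ext ?_, Fin.ext ?_⟩
  · rw [wordQ_smul]; exact Nat.eq_of_beq_eq_true h2
  · rw [wordQ_smul]; exact Nat.eq_of_beq_eq_true h3
  · rw [wordQ_smul]; exact Nat.eq_of_beq_eq_true h4

theorem hD (x : Fin 85) (hx : x ∈ Dset) :
    ∃ g : Q, g • (0 : Fin 85) = 0 ∧ g • (1 : Fin 85) = 1 ∧ g • (3 : Fin 85) = 3 ∧
      g • (47 : Fin 85) = x := by
  have h := chk_D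
  rw [List.all_eq_true] at h
  have hx' := h x.val (List.mem_range.mpr x.isLt)
  have hin : inD x.val = true := by simpa [Dset] using hx
  rw [hin] at hx'
  simp only [Bool.not_true, Bool.false_or, Bool.and_eq_true] at hx'
  obtain ⟨h1, h2, h3, h4, h5⟩ := hx'
  refine ⟨wordQ _ h1, Fin.ext ?_, Fin.ext ?_, Fin.ext ?_, Fin.ext ?_⟩
  · rw [wordQ_smul]; exact Nat.eq_of_beq_eq_true h2
  · rw [wordQ_smul]; exact Nat.eq_of_beq_eq_true h3
  · rw [wordQ_smul]; exact Nat.eq_of_beq_eq_true h4
  · rw [wordQ_smul]; exact Nat.eq_of_beq_eq_true h5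

/-! ### comparison of the two actions -/

theorem theta_gm (m : Fin 7) : theta ⟨gm m.val, gm_mem m.val m.isLt⟩ = rho (slF m) := by
  ext j
  have hlt : Pt m.val j.val < 85 := (chk_at m.val j.val m.isLt j.isLt).2.2.1
  rw [rho_slF m j hlt]
  have := theta_apply ⟨gm m.val, gm_mem m.val m.isLt⟩ j ⟨Pt m.val j.val, hlt⟩
    (gm_smul m.val j.val m.isLt j.isLt)
  rw [this]

theorem theta_mem_range (g : HG) (hg : g ∈ N0) : theta ⟨g, hg⟩ ∈ rho.range := by
  unfold N0 at hg
  induction hg using Subgroup.closure_induction with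
  | mem y hy =>
    obtain ⟨m, hm, rfl⟩ := hy
    exact ⟨_, (theta_gm ⟨m, hm⟩).symm⟩
  | one =>
    have e : (⟨1, Subgroup.one_mem _⟩ : N0) = 1 := rfl
    rw [e, map_one]
    exact rho.range.one_mem
  | mul y z hy hz ihy ihz =>
    have e : (⟨y * z, Subgroup.mul_mem _ hy hz⟩ : N0) = ⟨y, hy⟩ * ⟨z, hz⟩ := rfl
    rw [e, map_mul]
    exact rho.range.mul_mem ihy ihz
  | inv y hy ih =>
    have e : (⟨y⁻¹, Subgroup.inv_mem _ hy⟩ : N0) = (⟨y, hy⟩ : N0)⁻¹ := rfl
    rw [e, map_inv]
    exact rho.range.inv_mem ih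

theorem Q_le : Q ≤ rho.range := by
  rintro _ ⟨g, rfl⟩
  exact theta_mem_range g.1 g.2

theorem finite_Sp44 : Finite Sp44 := Nat.finite_of_card_ne_zero (by rw [card_Sp44]; norm_num)

theorem card_rho_range_le : Nat.card rho.range ≤ 979200 := by
  have := finite_Sp44
  rw [← card_Sp44]
  exact Nat.card_le_card_of_surjective rho.rangeRestrict rho.rangeRestrict_surjective

/-- the order of the image, and its faithfulness on the four base blocks -/
theorem card_and_faithful85 : Nat.card Q = 979200 ∧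
    ∀ g : Q, g • (0 : Fin 85) = 0 → g • (1 : Fin 85) = 1 → g • (3 : Fin 85) = 3 →
      g • (47 : Fin 85) = 47 → g = 1 := by
  have hcards : (Finset.univ : Finset (Fin 85)).card * Bset.card * Cset.card * Dset.card = 979200 := by
    rw [Finset.card_univ, Fintype.card_fin, Bset_card, Cset_card, Dset_card]
  have hle : Nat.card Q ≤ 979200 :=
    (Subgroup.card_le_of_le Q_le).trans card_rho_range_le
  have key := chain4_eq_and_faithful (G := Q) (0 : Fin 85) 1 3 47 Finset.univ Bset Cset Dset
    (fun x _ => hA x) hB hC hD (by rw [hcards]; exact hle)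
  rw [hcards] at key
  exact key

theorem card_Q : Nat.card Q = 979200 := card_and_faithful85.1

end Cfsg.Agent.Lib.Helper92.He.S44
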