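import Cfsg.Agent.Lib.Helper92.He.Lower
import Cfsg.Agent.Lib.Helper92.He.CertC49
import Cfsg.Agent.Lib.Helper92.He.CertCM5
import Cfsg.Agent.Lib.Helper92.He.CertCLA
import Cfsg.Agent.Lib.Helper92.He.CertCA
import Cfsg.Agent.Lib.Helper92.He.CertCQ

/-!
# The presented Held group has at most 4030387200 elements (helper92)
-/

set_option autoImplicit false

namespace Cfsg.Agent.Lib.Helper92.He
open Cfsg.Agent.Lib.Helper92.TCert
open Cfsg.Spor Cfsg.Spor.He

section General
variable {G : Type*} [Group G]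

theorem evr_congr (l1 l2 : ℕ → G) (w : List ℕ) (h : ∀ x ∈ w, l1 x = l2 x) : evr l1 w = evr l2 w := by
  induction w with
  | nil => rfl
  | cons x w ih =>
    rw [evr, evr, ih (fun y hy => h y (List.mem_cons_of_mem _ hy)), h x List.mem_cons_self]

theorem evr_map {G' : Type*} [Group G'] (f : G →* G') (l : ℕ → G) (w : List ℕ) :
    evr (fun x => f (l x)) w = f (evr l w) := by
  induction w with
  | nil => simp [evr]
  | cons x w ih => rw [evr, evr, ih, map_mul]

theorem evr_comp (l : ℕ → G) (τ : ℕ → ℕ) (w : List ℕ) : evr (fun x => l (τ x)) w = evr l (w.map τ) := by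
  induction w with
  | nil => rfl
  | cons x w ih => rw [List.map_cons, evr, evr, ih]

end General

/-- image of a generator -/
noncomputable def og (x : Gen) : HG := PresentedGroup.of x

/-- values of the eight letters `a, d, e, f, g, c, b, b⁻¹` -/
noncomputable def lv (x : ℕ) : HG :=
  match x with
  | 0 => og .a | 1 => og .d | 2 => og .e | 3 => og .f | 4 => og .g | 5 => og .c | 6 => og .b
  | 7 => (og .b)⁻¹ | _ => 1

theorem mk_rel {r : FreeGroup Gen} (h : r ∈ heRels) : PresentedGroup.mk heRels r = 1 :=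
  PresentedGroup.one_of_mem h

theorem cox_rel (x y : Gen) (hx : x ∈ coxNodes edges) (hy : y ∈ coxNodes edges) :
    (og x * og y) ^ coxLabel edges x y = 1 := by
  have := mk_rel (Or.inl ⟨x, hx, y, hy, rfl⟩ : (FreeGroup.of x * FreeGroup.of y) ^ coxLabel edges x y ∈ heRels)
  rwa [map_pow, map_mul] at this

theorem og_sq (x : Gen) (hx : x ∈ coxNodes edges) : og x * og x = 1 := by
  have h := cox_rel x x hx hx
  have e : coxLabel edges x x = 1 := by simp [coxLabel]
  rwa [e, pow_one] at h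

theorem og_inv (x : Gen) (hx : x ∈ coxNodes edges) : (og x)⁻¹ = og x :=
  inv_eq_of_mul_eq_one_left (og_sq x hx)

theorem nodeA : Gen.a ∈ coxNodes edges := by simp [coxNodes, edges]
theorem nodeB : Gen.b ∈ coxNodes edges := by simp [coxNodes, edges]
theorem nodeC : Gen.c ∈ coxNodes edges := by simp [coxNodes, edges]
theorem nodeD : Gen.d ∈ coxNodes edges := by simp [coxNodes, edges]
theorem nodeE : Gen.e ∈ coxNodes edges := by simp [coxNodes, edges]
theorem nodeF : Gen.f ∈ coxNodes edges := by simp [coxNodes, edges]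
theorem nodeG : Gen.g ∈ coxNodes edges := by simp [coxNodes, edges]

theorem extra_mem {r : FreeGroup Gen} (h : r ∈ extra) : r ∈ heRels := Or.inr h

/-- the relators in acting order -/
def relsHe : List (List ℕ) :=
  [[6, 6], [6, 0, 6, 0, 6, 0, 6, 0], [5, 0, 5, 0], [1, 0, 1, 0], [2, 0, 2, 0], [3, 0, 3, 0], [4, 0, 4, 0], [5, 6, 5, 6, 5, 6], [1, 6, 1, 6], [2, 6, 2, 6], [3, 6, 3, 6], [4, 6, 4, 6], [1, 5, 1, 5, 1, 5, 1, 5, 1, 5, 1, 5, 1, 5, 1, 5, 1, 5, 1, 5], [2, 5, 2, 5], [3, 5, 3, 5], [4, 5, 4, 5], [2, 1, 2, 1, 2, 1], [3, 1, 3, 1, 3, 1], [4, 1, 4, 1, 4, 1], [3, 2, 3, 2], [4, 2, 4, 2], [4, 3, 4, 3, 4, 3, 4, 3], [2, 4, 3, 4, 3], [2, 5, 6, 0, 5, 6, 0, 5, 6, 0], [0, 1, 5, 1, 5, 1, 5, 1, 5, 1, 5], [5, 1, 3, 4, 5, 1, 3, 4, 5, 1, 3, 4, 5, 1, 3, 4]]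

theorem relsHe_one : ∀ w ∈ relsHe, evr lv w = 1 := by
  intro w hw
  simp only [relsHe, List.mem_cons, List.not_mem_nil, or_false] at hw
  rcases hw with rfl | rfl | rfl | rfl | rfl | rfl | rfl | rfl | rfl | rfl | rfl | rfl | rfl | rfl | rfl | rfl | rfl | rfl | rfl | rfl | rfl | rfl | rfl | rfl | rfl | rfl
  · have h := og_sq .b nodeB
    simpa [evr, lv] using h
  · have h := cox_rel .a .b nodeA nodeB
    have e : coxLabel edges .a .b = 4 := rfl
    rw [e] at h; simpa [evr, lv, pow_succ, mul_assoc] using h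
  · have h := cox_rel .a .c nodeA nodeC
    have e : coxLabel edges .a .c = 2 := rfl
    rw [e] at h; simpa [evr, lv, pow_succ, mul_assoc] using h
  · have h := cox_rel .a .d nodeA nodeD
    have e : coxLabel edges .a .d = 2 := rfl
    rw [e] at h; simpa [evr, lv, pow_succ, mul_assoc] using h
  · have h := cox_rel .a .e nodeA nodeE
    have e : coxLabel edges .a .e = 2 := rfl
    rw [e] at h; simpa [evr, lv, pow_succ, mul_assoc] using h
  · have h := cox_rel .a .f nodeA nodeF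
    have e : coxLabel edges .a .f = 2 := rfl
    rw [e] at h; simpa [evr, lv, pow_succ, mul_assoc] using h
  · have h := cox_rel .a .g nodeA nodeG
    have e : coxLabel edges .a .g = 2 := rfl
    rw [e] at h; simpa [evr, lv, pow_succ, mul_assoc] using h
  · have h := cox_rel .b .c nodeB nodeC
    have e : coxLabel edges .b .c = 3 := rfl
    rw [e] at h; simpa [evr, lv, pow_succ, mul_assoc] using h
  · have h := cox_rel .b .d nodeB nodeD
    have e : coxLabel edges .b .d = 2 := rfl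
    rw [e] at h; simpa [evr, lv, pow_succ, mul_assoc] using h
  · have h := cox_rel .b .e nodeB nodeE
    have e : coxLabel edges .b .e = 2 := rfl
    rw [e] at h; simpa [evr, lv, pow_succ, mul_assoc] using h
  · have h := cox_rel .b .f nodeB nodeF
    have e : coxLabel edges .b .f = 2 := rfl
    rw [e] at h; simpa [evr, lv, pow_succ, mul_assoc] using h
  · have h := cox_rel .b .g nodeB nodeG
    have e : coxLabel edges .b .g = 2 := rfl
    rw [e] at h; simpa [evr, lv, pow_succ, mul_assoc] using h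
  · have h := cox_rel .c .d nodeC nodeD
    have e : coxLabel edges .c .d = 10 := rfl
    rw [e] at h; simpa [evr, lv, pow_succ, mul_assoc] using h
  · have h := cox_rel .c .e nodeC nodeE
    have e : coxLabel edges .c .e = 2 := rfl
    rw [e] at h; simpa [evr, lv, pow_succ, mul_assoc] using h
  · have h := cox_rel .c .f nodeC nodeF
    have e : coxLabel edges .c .f = 2 := rfl
    rw [e] at h; simpa [evr, lv, pow_succ, mul_assoc] using h
  · have h := cox_rel .c .g nodeC nodeG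
    have e : coxLabel edges .c .g = 2 := rfl
    rw [e] at h; simpa [evr, lv, pow_succ, mul_assoc] using h
  · have h := cox_rel .d .e nodeD nodeE
    have e : coxLabel edges .d .e = 3 := rfl
    rw [e] at h; simpa [evr, lv, pow_succ, mul_assoc] using h
  · have h := cox_rel .d .f nodeD nodeF
    have e : coxLabel edges .d .f = 3 := rfl
    rw [e] at h; simpa [evr, lv, pow_succ, mul_assoc] using h
  · have h := cox_rel .d .g nodeD nodeG
    have e : coxLabel edges .d .g = 3 := rfl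
    rw [e] at h; simpa [evr, lv, pow_succ, mul_assoc] using h
  · have h := cox_rel .e .f nodeE nodeF
    have e : coxLabel edges .e .f = 2 := rfl
    rw [e] at h; simpa [evr, lv, pow_succ, mul_assoc] using h
  · have h := cox_rel .e .g nodeE nodeG
    have e : coxLabel edges .e .g = 2 := rfl
    rw [e] at h; simpa [evr, lv, pow_succ, mul_assoc] using h
  · have h := cox_rel .f .g nodeF nodeG
    have e : coxLabel edges .f .g = 4 := rfl
    rw [e] at h; simpa [evr, lv, pow_succ, mul_assoc] using h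
  · have h := mk_rel (extra_mem (r := e * ((f * g) ^ 2)⁻¹) (by simp [extra]))
    simp only [map_mul, map_inv, map_pow] at h
    change og .e * ((og .f * og .g) ^ 2)⁻¹ = 1 at h
    have hE : og .e = (og .f * og .g) ^ 2 := eq_of_mul_inv_eq_one h
    have hc := cox_rel .f .g nodeF nodeG
    have e4 : coxLabel edges .f .g = 4 := rfl
    rw [e4] at hc
    have : evr lv [2, 4, 3, 4, 3] = (og .f * og .g) ^ 2 * og .e := by
      simp [evr, lv, pow_succ, mul_assoc]
    rw [this, hE, ← pow_add]; exact hc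
  · have h := mk_rel (extra_mem (r := e * ((a * b * c) ^ 3)⁻¹) (by simp [extra]))
    simp only [map_mul, map_inv, map_pow] at h
    change og .e * ((og .a * og .b * og .c) ^ 3)⁻¹ = 1 at h
    have hE : og .e = (og .a * og .b * og .c) ^ 3 := eq_of_mul_inv_eq_one h
    have : evr lv [2, 5, 6, 0, 5, 6, 0, 5, 6, 0] = (og .a * og .b * og .c) ^ 3 * og .e := by
      simp [evr, lv, pow_succ, mul_assoc]
    rw [this, ← hE]; exact og_sq .e nodeE
  · have h := mk_rel (extra_mem (r := a * ((c * d) ^ 5)⁻¹) (by simp [extra]))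
    simp only [map_mul, map_inv, map_pow] at h
    change og .a * ((og .c * og .d) ^ 5)⁻¹ = 1 at h
    have hE : og .a = (og .c * og .d) ^ 5 := eq_of_mul_inv_eq_one h
    have : evr lv [0, 1, 5, 1, 5, 1, 5, 1, 5, 1, 5] = (og .c * og .d) ^ 5 * og .a := by
      simp [evr, lv, pow_succ, mul_assoc]
    rw [this, ← hE]; exact og_sq .a nodeA
  · have h := mk_rel (extra_mem (r := (c * d * f * g) ^ 4) (by simp [extra]))
    simp only [map_mul, map_pow] at h
    change (og .c * og .d * og .f * og .g) ^ 4 = 1 at h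
    have hi : og .g * og .f * og .d * og .c = (og .c * og .d * og .f * og .g)⁻¹ := by
      simp [mul_inv_rev, og_inv _ nodeC, og_inv _ nodeD, og_inv _ nodeF, og_inv _ nodeG, mul_assoc]
    have : evr lv [5, 1, 3, 4, 5, 1, 3, 4, 5, 1, 3, 4, 5, 1, 3, 4] = (og .g * og .f * og .d * og .c) ^ 4 := by
      simp [evr, lv, pow_succ, mul_assoc]
    rw [this, hi, inv_pow, h, inv_one]


theorem lv_ic (x : ℕ) (hx : x < 8) : lv (ic x) = (lv x)⁻¹ := by
  interval_cases x
  · exact (og_inv _ nodeA).symm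
  · exact (og_inv _ nodeD).symm
  · exact (og_inv _ nodeE).symm
  · exact (og_inv _ nodeF).symm
  · exact (og_inv _ nodeG).symm
  · exact (og_inv _ nodeC).symm
  · rfl
  · show og .b = ((og .b)⁻¹)⁻¹
    rw [inv_inv]

/-! ### the subgroup `⟨a, b, c, d, e⟩` and the relation `(c d c d e d)^2 c d e = 1` -/

/-- letters `a, b, c, d, e` -/
noncomputable def lvM5 (x : ℕ) : HG :=
  match x with
  | 0 => og .a | 1 => og .b | 2 => og .c | 3 => og .d | 4 => og .e | _ => 1

/-- translation of the letters `a, b, c, d, e` into the main numbering -/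
def tauM5 : ℕ → ℕ
  | 0 => 0 | 1 => 6 | 2 => 5 | 3 => 1 | 4 => 2 | _ => 8

theorem lvM5_eq (x : ℕ) : lvM5 x = lv (tauM5 x) := by
  rcases x with _|_|_|_|_|x <;> rfl

/-- relators among `a, b, c, d, e` -/
def relsM5 : List (List ℕ) :=
  [[1, 0, 1, 0, 1, 0, 1, 0], [2, 0, 2, 0], [3, 0, 3, 0], [4, 0, 4, 0], [2, 1, 2, 1, 2, 1], [3, 1, 3, 1], [4, 1, 4, 1], [3, 2, 3, 2, 3, 2, 3, 2, 3, 2, 3, 2, 3, 2, 3, 2, 3, 2, 3, 2], [4, 2, 4, 2], [4, 3, 4, 3, 4, 3], [4, 2, 1, 0, 2, 1, 0, 2, 1, 0], [0, 3, 2, 3, 2, 3, 2, 3, 2, 3, 2]]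

theorem relsM5_sub : ∀ w ∈ relsM5, w.map tauM5 ∈ relsHe := by decide

theorem relsM5_one : ∀ w ∈ relsM5, evr lvM5 w = 1 := by
  intro w hw
  have e : evr lvM5 w = evr lv (w.map tauM5) := by
    rw [← evr_comp]
    exact evr_congr _ _ w (fun x _ => lvM5_eq x)
  rw [e]
  exact relsHe_one _ (relsM5_sub w hw)

theorem lvM5_ic (x : ℕ) (hx : x < 8) : lvM5 (ic x) = (lvM5 x)⁻¹ := by
  interval_cases x
  · exact (og_inv _ nodeA).symm
  · exact (og_inv _ nodeB).symm
  · exact (og_inv _ nodeC).symm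
  · exact (og_inv _ nodeD).symm
  · exact (og_inv _ nodeE).symm
  all_goals (show (1 : HG) = 1⁻¹; rw [inv_one])

set_option maxRecDepth 100000 in
theorem rotM5_ok : (List.range CM5.nR).map (rotWordOf CM5.rot) = allRotsOf relsM5 := by decide +kernel

theorem hypM5 : Hyp (⊥ : Subgroup HG) lvM5 CM5.row CM5.rot 8 CM5.nR 0 CM5.nN where
  hN := by decide
  hrow := fun u h => rowOf_ge CM5.trie CM5.nN u h
  hdp0 := CM5.dp0
  hrot := rot_one_of lvM5 CM5.rot relsM5 CM5.nR relsM5_one rotM5_ok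
  hsub := fun x hx => absurd hx (by omega)
  hic := lvM5_ic
  hS := fun u hu x hx => (chkNode_spec CM5.row CM5.rot 8 CM5.nR 0 u (CM5.chk_nodes u hu)).2 x hx
  hQ := fun u hu => (chkNode_spec CM5.row CM5.rot 8 CM5.nR 0 u (CM5.chk_nodes u hu)).1

/-- the word `(c d c d e d)^2 c d e` in the letters `a, b, c, d, e` -/
def zM5 : List ℕ := [2, 3, 2, 3, 4, 3, 2, 3, 2, 3, 4, 3, 2, 3, 4]

/-- the same word in the main numbering -/
def zG : List ℕ := [5, 1, 5, 1, 2, 1, 5, 1, 5, 1, 2, 1, 5, 1, 2]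

set_option maxRecDepth 100000 in
theorem chk_z : Nat.beq (walkL CM5.row 8 1048575 zM5 0) 0 = true := by decide +kernel

theorem zM5_one : evr lvM5 zM5 = 1 := by
  have hO := older_all hypM5 1048575
  have hw : walkL CM5.row 8 1048575 zM5 0 = 0 := Nat.eq_of_beq_eq_true chk_z
  have hne : walkL CM5.row 8 1048575 zM5 0 ≠ BAD := by rw [hw]; decide
  have h := walkL_sound 8 hO hypM5.hB zM5 (by decide) 0 hne
  rw [hw] at h
  unfold TCert.Rel at h
  rw [hypM5.rep0] at h
  simpa using h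

theorem zG_one : evr lv zG = 1 := by
  have e : evr lvM5 zM5 = evr lv (zM5.map tauM5) := by
    rw [← evr_comp]
    exact evr_congr _ _ zM5 (fun x _ => lvM5_eq x)
  have e2 : zM5.map tauM5 = zG := by decide
  rw [← e2, ← e]; exact zM5_one

/-! ### the subgroups `⟨a, d, e, f, g⟩` and `⟨a, d, e, f, g, c⟩` -/

/-- letters `a, d, e, f, g` -/
noncomputable def lvA (x : ℕ) : HG :=
  match x with
  | 0 => og .a | 1 => og .d | 2 => og .e | 3 => og .f | 4 => og .g | _ => 1

/-- letters `a, d, e, f, g, c` -/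
noncomputable def lvL (x : ℕ) : HG :=
  match x with
  | 0 => og .a | 1 => og .d | 2 => og .e | 3 => og .f | 4 => og .g | 5 => og .c | _ => 1

theorem lvA_eq (x : ℕ) (hx : x < 5) : lvA x = lv x := by interval_cases x <;> rfl
theorem lvL_eq (x : ℕ) (hx : x < 6) : lvL x = lv x := by interval_cases x <;> rfl
theorem lvA_eqL (x : ℕ) (hx : x < 5) : lvA x = lvL x := by interval_cases x <;> rfl

/-- relators among `a, d, e, f, g` -/
def relsA5 : List (List ℕ) :=
  [[1, 0, 1, 0], [2, 0, 2, 0], [3, 0, 3, 0], [4, 0, 4, 0], [2, 1, 2, 1, 2, 1], [3, 1, 3, 1, 3, 1], [4, 1, 4, 1, 4, 1], [3, 2, 3, 2], [4, 2, 4, 2], [4, 3, 4, 3, 4, 3, 4, 3], [2, 4, 3, 4, 3]]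

/-- relators among `a, d, e, f, g, c`, with the extra relation -/
def relsL : List (List ℕ) :=
  [[5, 0, 5, 0], [1, 0, 1, 0], [2, 0, 2, 0], [3, 0, 3, 0], [4, 0, 4, 0], [1, 5, 1, 5, 1, 5, 1, 5, 1, 5, 1, 5, 1, 5, 1, 5, 1, 5, 1, 5], [2, 5, 2, 5], [3, 5, 3, 5], [4, 5, 4, 5], [2, 1, 2, 1, 2, 1], [3, 1, 3, 1, 3, 1], [4, 1, 4, 1, 4, 1], [3, 2, 3, 2], [4, 2, 4, 2], [4, 3, 4, 3, 4, 3, 4, 3], [2, 4, 3, 4, 3], [0, 1, 5, 1, 5, 1, 5, 1, 5, 1, 5], [5, 1, 3, 4, 5, 1, 3, 4, 5, 1, 3, 4, 5, 1, 3, 4], [5, 1, 5, 1, 2, 1, 5, 1, 5, 1, 2, 1, 5, 1, 2]]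

theorem relsA5_sub : ∀ w ∈ relsA5, w ∈ relsHe ∧ ∀ x ∈ w, x < 5 := by decide

theorem relsL_sub : ∀ w ∈ relsL, (w ∈ relsHe ∨ w = zG) ∧ ∀ x ∈ w, x < 6 := by decide

theorem relsA5_one : ∀ w ∈ relsA5, evr lvA w = 1 := by
  intro w hw
  obtain ⟨h1, h2⟩ := relsA5_sub w hw
  rw [evr_congr lvA lv w (fun x hx => lvA_eq x (h2 x hx))]
  exact relsHe_one w h1

theorem relsL_one : ∀ w ∈ relsL, evr lvL w = 1 := by
  intro w hw
  obtain ⟨h1, h2⟩ := relsL_sub w hw
  rw [evr_congr lvL lv w (fun x hx => lvL_eq x (h2 x hx))]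
  rcases h1 with h1 | h1
  · exact relsHe_one w h1
  · rw [h1]; exact zG_one

theorem lvA_ic (x : ℕ) (hx : x < 8) : lvA (ic x) = (lvA x)⁻¹ := by
  interval_cases x
  · exact (og_inv _ nodeA).symm
  · exact (og_inv _ nodeD).symm
  · exact (og_inv _ nodeE).symm
  · exact (og_inv _ nodeF).symm
  · exact (og_inv _ nodeG).symm
  all_goals (show (1 : HG) = 1⁻¹; rw [inv_one])

theorem lvL_ic (x : ℕ) (hx : x < 8) : lvL (ic x) = (lvL x)⁻¹ := by
  interval_cases x
  · exact (og_inv _ nodeA).symm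
  · exact (og_inv _ nodeD).symm
  · exact (og_inv _ nodeE).symm
  · exact (og_inv _ nodeF).symm
  · exact (og_inv _ nodeG).symm
  · exact (og_inv _ nodeC).symm
  all_goals (show (1 : HG) = 1⁻¹; rw [inv_one])

/-- the subgroup `⟨a, d, e, f, g⟩` -/
noncomputable def Asub : Subgroup HG := Subgroup.closure (lvA '' {x | x < 5})

/-- the subgroup `⟨a, d, e, f, g, c⟩` -/
noncomputable def Lsub : Subgroup HG := Subgroup.closure (lvL '' {x | x < 6})

set_option maxRecDepth 100000 in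
theorem rotA_ok : (List.range CA.nR).map (rotWordOf CA.rot) = allRotsOf relsA5 := by decide +kernel

set_option maxRecDepth 100000 in
theorem rotL_ok : (List.range CLA.nR).map (rotWordOf CLA.rot) = allRotsOf relsL := by decide +kernel

set_option maxRecDepth 100000 in
theorem rotHe_ok : (List.range C49.nR).map (rotWordOf C49.rot) = allRotsOf relsHe := by decide +kernel

theorem hypA : Hyp (⊥ : Subgroup HG) lvA CA.row CA.rot 8 CA.nR 0 CA.nN where
  hN := by decide
  hrow := fun u h => rowOf_ge CA.trie CA.nN u h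
  hdp0 := CA.dp0
  hrot := rot_one_of lvA CA.rot relsA5 CA.nR relsA5_one rotA_ok
  hsub := fun x hx => absurd hx (by omega)
  hic := lvA_ic
  hS := fun u hu x hx => (chkNode_spec CA.row CA.rot 8 CA.nR 0 u (CA.chk_nodes u hu)).2 x hx
  hQ := fun u hu => (chkNode_spec CA.row CA.rot 8 CA.nR 0 u (CA.chk_nodes u hu)).1

theorem hypL : Hyp Asub lvL CLA.row CLA.rot 8 CLA.nR 5 CLA.nN where
  hN := by decide
  hrow := fun u h => rowOf_ge CLA.trie CLA.nN u h
  hdp0 := CLA.dp0
  hrot := rot_one_of lvL CLA.rot relsL CLA.nR relsL_one rotL_ok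
  hsub := fun x hx => Subgroup.subset_closure ⟨x, hx, lvA_eqL x hx⟩
  hic := lvL_ic
  hS := fun u hu x hx => (chkNode_spec CLA.row CLA.rot 8 CLA.nR 5 u (CLA.chk_nodes u hu)).2 x hx
  hQ := fun u hu => (chkNode_spec CLA.row CLA.rot 8 CLA.nR 5 u (CLA.chk_nodes u hu)).1

theorem hypHe : Hyp Lsub lv C49.row C49.rot 8 C49.nR 6 C49.nN where
  hN := by decide
  hrow := fun u h => rowOf_ge C49.trie C49.nN u h
  hdp0 := C49.dp0
  hrot := rot_one_of lv C49.rot relsHe C49.nR relsHe_one rotHe_ok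
  hsub := fun x hx => Subgroup.subset_closure ⟨x, hx, lvL_eq x hx⟩
  hic := lv_ic
  hS := fun u hu x hx => (chkNode_spec C49.row C49.rot 8 C49.nR 6 u (C49.chk_nodes u hu)).2 x hx
  hQ := fun u hu => (chkNode_spec C49.row C49.rot 8 C49.nR 6 u (C49.chk_nodes u hu)).1

theorem lvA_all (x : ℕ) (hx : x < 8) : lvA x ∈ Subgroup.closure (lvA '' {x | x < 5}) := by
  by_cases h : x < 5
  · exact Subgroup.subset_closure ⟨x, h, rfl⟩
  · have : lvA x = 1 := by
      interval_cases x <;> first | omega | rfl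
    rw [this]; exact Subgroup.one_mem _

theorem lvL_all (x : ℕ) (hx : x < 8) : lvL x ∈ Subgroup.closure (lvL '' {x | x < 6}) := by
  by_cases h : x < 6
  · exact Subgroup.subset_closure ⟨x, h, rfl⟩
  · have : lvL x = 1 := by
      interval_cases x <;> first | omega | rfl
    rw [this]; exact Subgroup.one_mem _

/-- `⟨a, d, e, f, g⟩` is finite of order at most 336 -/
theorem card_Asub : Finite Asub ∧ Nat.card Asub ≤ 336 := by
  obtain ⟨hf, hc⟩ := card_sub_le hypA CA.nC 5 1048575 (by decide) (by decide) (by norm_num) lvA_all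
    (fun c hc x hx => chkFinG_spec CA.row 8 CA.nC 1048575 5 c (CA.chk_fin c hc) x hx)
  change Finite (Asub ⧸ (⊥ : Subgroup HG).subgroupOf Asub) at hf
  change Nat.card (Asub ⧸ (⊥ : Subgroup HG).subgroupOf Asub) ≤ 336 at hc
  rw [Subgroup.bot_subgroupOf] at hf hc
  have e : (Asub ⧸ (⊥ : Subgroup Asub)) ≃ Asub := (QuotientGroup.quotientBot).toEquiv
  have hfin : Finite Asub := Finite.of_equiv _ e
  refine ⟨hfin, ?_⟩
  rw [← Nat.card_congr e]; exact hc

theorem Asub_le_Lsub : Asub ≤ Lsub := by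
  unfold Asub Lsub
  rw [Subgroup.closure_le]
  rintro _ ⟨x, hx, rfl⟩
  have hx' : x < 5 := hx
  rw [lvA_eqL x hx']
  exact Subgroup.subset_closure ⟨x, by show x < 6; omega, rfl⟩

/-- `⟨a, d, e, f, g, c⟩` is finite of order at most 80640 -/
theorem card_Lsub : Finite Lsub ∧ Nat.card Lsub ≤ 80640 := by
  obtain ⟨hf, hc⟩ := card_sub_le hypL CLA.nC 6 1048575 (by decide) (by decide) (by norm_num) lvL_all
    (fun c hc x hx => chkFinG_spec CLA.row 8 CLA.nC 1048575 6 c (CLA.chk_fin c hc) x hx)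
  change Finite (Lsub ⧸ Asub.subgroupOf Lsub) at hf
  change Nat.card (Lsub ⧸ Asub.subgroupOf Lsub) ≤ 240 at hc
  obtain ⟨hMf, hMc⟩ := card_Asub
  have e : Asub.subgroupOf Lsub ≃ Asub := (Subgroup.subgroupOfEquivOfLe Asub_le_Lsub).toEquiv
  have hSf : Finite (Asub.subgroupOf Lsub) := Finite.of_equiv _ e.symm
  have hSc : Nat.card (Asub.subgroupOf Lsub) ≤ 336 := by rw [Nat.card_congr e]; exact hMc
  have hmul := Subgroup.card_eq_card_quotient_mul_card_subgroup (Asub.subgroupOf Lsub)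
  have hpos1 : 0 < Nat.card (Lsub ⧸ Asub.subgroupOf Lsub) := Nat.card_pos
  have hpos2 : 0 < Nat.card (Asub.subgroupOf Lsub) := Nat.card_pos
  have hne : Nat.card Lsub ≠ 0 := by rw [hmul]; positivity
  refine ⟨Nat.finite_of_card_ne_zero hne, ?_⟩
  rw [hmul]
  calc Nat.card (Lsub ⧸ Asub.subgroupOf Lsub) * Nat.card (Asub.subgroupOf Lsub)
      ≤ 240 * 336 := Nat.mul_le_mul hc hSc
    _ = 80640 := by norm_num

theorem lv_gen : Subgroup.closure (lv '' {x | x < 7}) = ⊤ := by
  rw [eq_top_iff, ← PresentedGroup.closure_range_of]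
  apply Subgroup.closure_mono
  rintro _ ⟨y, rfl⟩
  cases y
  · exact ⟨0, by norm_num, rfl⟩
  · exact ⟨6, by norm_num, rfl⟩
  · exact ⟨5, by norm_num, rfl⟩
  · exact ⟨1, by norm_num, rfl⟩
  · exact ⟨2, by norm_num, rfl⟩
  · exact ⟨3, by norm_num, rfl⟩
  · exact ⟨4, by norm_num, rfl⟩

/-- the presented Held group is finite of order at most 4030387200 -/
theorem card_HG_le : Finite HG ∧ Nat.card HG ≤ 4030387200 := by
  obtain ⟨hf, hc⟩ := card_quotient_le hypHe C49.nC 7 1048575 (by decide) (by decide) (by norm_num) lv_gen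
    (fun c hc x hx => chkFinG_spec C49.row 8 C49.nC 1048575 7 c (C49.chk_fin c hc) x hx)
  have hc' : Nat.card (HG ⧸ Lsub) ≤ 49980 := hc
  obtain ⟨hLf, hLc⟩ := card_Lsub
  have hmul := Subgroup.card_eq_card_quotient_mul_card_subgroup Lsub
  have hpos1 : 0 < Nat.card (HG ⧸ Lsub) := Nat.card_pos
  have hpos2 : 0 < Nat.card Lsub := Nat.card_pos
  have hne : Nat.card HG ≠ 0 := by rw [hmul]; positivity
  refine ⟨Nat.finite_of_card_ne_zero hne, ?_⟩
  rw [hmul]
  calc Nat.card (HG ⧸ Lsub) * Nat.card Lsub ≤ 49980 * 80640 := Nat.mul_le_mul hc' hLc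
    _ = 4030387200 := by norm_num

/-! ### the normal closure of `d f g` -/

/-- the element `d f g`, of order 7 -/
noncomputable def g7 : HG := og .d * og .f * og .g

/-- relators of the quotient by the normal closure of `d f g` -/
def relsQ : List (List ℕ) := relsHe ++ [[1, 3, 4]]

set_option maxRecDepth 100000 in
theorem rotQ_ok : (List.range CQ.nR).map (rotWordOf CQ.rot) = allRotsOf relsQ := by decide +kernel

/-- letters in the quotient -/
noncomputable def lvQ (x : ℕ) : HG ⧸ Subgroup.normalClosure {g7} :=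
  QuotientGroup.mk' (Subgroup.normalClosure {g7}) (lv x)

theorem relsQ_one : ∀ w ∈ relsQ, evr lvQ w = 1 := by
  intro w hw
  have e : evr lvQ w = QuotientGroup.mk' (Subgroup.normalClosure {g7}) (evr lv w) :=
    evr_map (QuotientGroup.mk' (Subgroup.normalClosure {g7})) lv w
  rw [e]
  unfold relsQ at hw
  rw [List.mem_append] at hw
  rcases hw with hw | hw
  · rw [relsHe_one w hw, map_one]
  · rw [List.mem_singleton] at hw
    rw [hw]
    have : evr lv [1, 3, 4] = g7⁻¹ := by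
      simp [evr, lv, g7, mul_inv_rev, og_inv _ nodeD, og_inv _ nodeF, og_inv _ nodeG, mul_assoc]
    rw [this]
    exact (QuotientGroup.eq_one_iff _).mpr
      (Subgroup.inv_mem _ (Subgroup.subset_normalClosure (Set.mem_singleton _)))

theorem hypQ : Hyp (⊥ : Subgroup (HG ⧸ Subgroup.normalClosure {g7})) lvQ CQ.row CQ.rot 8 CQ.nR 0 CQ.nN where
  hN := by decide
  hrow := fun u h => rowOf_ge CQ.trie CQ.nN u h
  hdp0 := CQ.dp0
  hrot := rot_one_of lvQ CQ.rot relsQ CQ.nR relsQ_one rotQ_ok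
  hsub := fun x hx => absurd hx (by omega)
  hic := fun x hx => by
    show QuotientGroup.mk' _ (lv (ic x)) = (QuotientGroup.mk' _ (lv x))⁻¹
    rw [lv_ic x hx, map_inv]
  hS := fun u hu x hx => (chkNode_spec CQ.row CQ.rot 8 CQ.nR 0 u (CQ.chk_nodes u hu)).2 x hx
  hQ := fun u hu => (chkNode_spec CQ.row CQ.rot 8 CQ.nR 0 u (CQ.chk_nodes u hu)).1

theorem lvQ_gen : Subgroup.closure (lvQ '' {x | x < 7}) = ⊤ := by
  have h1 : lvQ '' {x | x < 7} = (QuotientGroup.mk' (Subgroup.normalClosure {g7})) '' (lv '' {x | x < 7}) := by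
    rw [Set.image_image]; rfl
  rw [h1, ← MonoidHom.map_closure, lv_gen]
  exact Subgroup.map_top_of_surjective _ (QuotientGroup.mk'_surjective _)

/-- the normal closure of `d f g` is the whole group -/
theorem normalClosure_g7 : Subgroup.normalClosure {g7} = (⊤ : Subgroup HG) := by
  obtain ⟨hf, hc⟩ := card_quotient_le hypQ CQ.nC 7 1048575 (by decide) (by decide) (by norm_num) lvQ_gen
    (fun c hc x hx => chkFinG_spec CQ.row 8 CQ.nC 1048575 7 c (CQ.chk_fin c hc) x hx)
  have hc1 : Nat.card ((HG ⧸ Subgroup.normalClosure {g7}) ⧸ (⊥ : Subgroup (HG ⧸ Subgroup.normalClosure {g7}))) ≤ 1 := hc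
  have e : ((HG ⧸ Subgroup.normalClosure {g7}) ⧸ (⊥ : Subgroup (HG ⧸ Subgroup.normalClosure {g7}))) ≃
      (HG ⧸ Subgroup.normalClosure {g7}) := (QuotientGroup.quotientBot).toEquiv
  have hfin : Finite (HG ⧸ Subgroup.normalClosure {g7}) := Finite.of_equiv _ e
  rw [Nat.card_congr e] at hc1
  have hsub : Subsingleton (HG ⧸ Subgroup.normalClosure {g7}) :=
    (Finite.card_le_one_iff_subsingleton).mp hc1
  exact QuotientGroup.subgroup_eq_top_of_subsingleton _ hsub

end Cfsg.Agent.Lib.Helper92.He
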